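import Cfsg.Agent.Lib.Lie.Chev.Univ.Main

/-!
# Lifts over the field with three elements, type `D₄`
-/

set_option autoImplicit false
set_option maxRecDepth 100000

namespace CfsgLib.Lie.Chev

open Cfsg.Lie
open scoped MatrixGroups commutatorElement

variable {D : ChevalleyDatum} {K : Type*} [Field K]

namespace CExt

variable {P : Type*} [Group P]

theorem comm_transfer {A C E : P} (hAE : Commute A E)
    (hcen : ⁅⁅C⁻¹, A⁆, E⁆ ∈ Subgroup.center P) : ⁅A, ⁅C, E⁆⁆ = ⁅⁅C⁻¹, A⁆, E⁆ := by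
  have hE : A * E * A⁻¹ = E := by rw [hAE.eq, mul_inv_cancel_right]
  have hz := Subgroup.mem_center_iff.1 hcen C
  calc ⁅A, ⁅C, E⁆⁆ = ⁅A * C * A⁻¹, A * E * A⁻¹⁆ * ⁅C, E⁆⁻¹ := by
        rw [← conjugate_commutatorElement, commutatorElement_def A]
    _ = C * ⁅⁅C⁻¹, A⁆, E⁆ * C⁻¹ := by rw [hE]; simp only [commutatorElement_def]; group
    _ = _ := by rw [hz, mul_inv_cancel_right]

theorem comm_zpow_right {a b : P} (h : ⁅a, b⁆ ∈ Subgroup.center P) (n : ℤ) :
    ⁅a, b ^ n⁆ = ⁅a, b⁆ ^ n := by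
  have h1 : a * b * a⁻¹ = ⁅a, b⁆ * b := by rw [commutatorElement_def]; group
  rw [commutatorElement_def a (b ^ n), ← conj_zpow, h1,
    (show Commute ⁅a, b⁆ b from (Subgroup.mem_center_iff.1 h b).symm).mul_zpow, mul_inv_cancel_right]

theorem comm_zpow_left {a b : P} (h : ⁅a, b⁆ ∈ Subgroup.center P) (n : ℤ) :
    ⁅a ^ n, b⁆ = ⁅a, b⁆ ^ n := by
  rw [← commutatorElement_inv, comm_zpow_right (by rw [← commutatorElement_inv]; exact inv_mem h),
    ← inv_zpow, commutatorElement_inv]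

end CExt

/-- the coefficient of the first term of the commutator formula -/
def fstCoef (D : ChevalleyDatum) (r s : ℕ) : ℤ := ((D.commTerms r s).head?.map fun x => x.2.1).getD 0

/-- the root elements of `r` and `s` commute -/
def commChk (D : ChevalleyDatum) (r s : ℕ) : Bool :=
  decide (r ≠ s ∧ s ≠ D.neg r) && (D.commTerms r s).isEmpty

/-- the commutator of `r` and `s` is the root element of `k` -/
def oneChk (D : ChevalleyDatum) (r s k : ℕ) : Bool :=
  decide (r ≠ s ∧ s ≠ D.neg r) && (D.commTerms r s == [(k, fstCoef D r s, 1, 1)]) && commChk D k s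

/-- the pairing of `a`, `b` is carried to that of `e`, `d` by `c` -/
def stepChk (D : ChevalleyDatum) (a b c d e : ℕ) : Bool :=
  decide (a < D.nroots ∧ b < D.nroots ∧ c < D.nroots ∧ d < D.nroots ∧ e < D.nroots) &&
  dzChk D Univ.eEven Univ.eOdd true a d && oneChk D c d b && oneChk D c a e &&
  commChk D a b && commChk D e d

/-- two steps exchange `a` and `b` -/
def swapChk (D : ChevalleyDatum) (a b : ℕ) (x : ℕ × ℕ × ℕ × ℕ) : Bool :=
  stepChk D a b x.1 x.2.1 x.2.2.1 && stepChk D x.2.2.1 x.2.1 x.2.2.2 a b &&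
  (fstCoef D x.1 x.2.1 * fstCoef D x.2.2.2 a == fstCoef D x.1 a * fstCoef D x.2.2.2 x.2.2.1) &&
  (fstCoef D x.1 a * fstCoef D x.2.2.2 x.2.2.1 == 1 ||
    fstCoef D x.1 a * fstCoef D x.2.2.2 x.2.2.1 == -1)

namespace Good

variable (G : Good D)

theorem xu_zpow (r : Fin D.nroots) (t : K) (n : ℤ) : G.xu r t ^ n = G.xu r ((n : K) * t) := by
  let f : Multiplicative K →* GL D.Idx K :=
    { toFun := fun x => G.xu r x.toAdd
      map_one' := G.xu_zero r
      map_mul' := fun x y => G.xu_add r _ _ }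
  have h := map_zpow f (Multiplicative.ofAdd t) n
  simpa [f, ← ofAdd_zsmul] using h.symm

end Good

namespace Full

variable (C : Full D)

theorem commute_of_commChk {r s : Fin D.nroots} (h : commChk D r.val s.val = true) (t u : K) :
    Commute (C.G.xu r t) (C.G.xu s u) := by
  simp only [commChk, Bool.and_eq_true, decide_eq_true_eq, List.isEmpty_iff] at h
  exact C.commute_of_empty (fun e => h.1.1 (congrArg Fin.val e).symm)
    (fun e => h.1.2 ((congrArg Fin.val e).trans (C.G.neg_val r).symm)) h.2 t u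

theorem comm_of_oneChk {r s k : Fin D.nroots} (h : oneChk D r.val s.val k.val = true) (v w : K) :
    ⁅C.G.xu r v, C.G.xu s w⁆ = C.G.xu k ((fstCoef D r.val s.val : K) * (v * w)) := by
  simp only [oneChk, Bool.and_eq_true, decide_eq_true_eq, beq_iff_eq] at h
  obtain ⟨⟨⟨h1, h2⟩, hl⟩, hks⟩ := h
  have e := congrArg C.theta (C.comm_xc r s (fun e => h1 (congrArg Fin.val e).symm)
    (fun e => h2 ((congrArg Fin.val e).trans (C.G.neg_val r).symm)) (-v) w)
  simp only [hl, List.map_cons, List.map_nil, List.prod_cons, List.prod_nil, mul_one, map_mul,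
    map_inv, C.theta_xc, neg_neg, pow_one] at e
  rw [show D.scGen K k.val ((fstCoef D r.val s.val : K) * (v * w)) =
    C.G.xc k ((fstCoef D r.val s.val : K) * (v * w)) from rfl, C.theta_xc, C.G.xu_inv, neg_neg] at e
  rw [commutatorElement_def, C.G.xu_inv r v, e,
    ← (C.commute_of_commChk hks _ w).eq, mul_inv_cancel_right]

variable {P : Type*} [Group P] (X : CExt D K P)

theorem step_eq (hz : ∀ e, Univ.eEven e = true → ∀ c : Kˣ, c ^ e = 1)
    (hok : ∀ e, Univ.eOdd e = true → ∃ c : Kˣ, c ^ e ≠ 1) (hself : ∀ r, C.DZ X r r)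
    {a b c d e : Fin D.nroots} (h : stepChk D a.val b.val c.val d.val e.val = true) {A B E' F : P}
    (hA : X.p A = C.G.xu a 1) (hB : X.p B = C.G.xu b 1) (hE : X.p E' = C.G.xu e 1)
    (hF : X.p F = C.G.xu d 1) :
    ⁅A, B⁆ ^ fstCoef D c.val d.val = ⁅E', F⁆ ^ (- fstCoef D c.val a.val) := by
  simp only [stepChk, Bool.and_eq_true] at h
  obtain ⟨⟨⟨⟨⟨-, hdz⟩, hcd⟩, hca⟩, hab⟩, hed⟩ := h
  obtain ⟨C', hC⟩ := X.exists_lift (C.G.xu_mem (K := K) c 1)
  have hab' : ⁅A, B⁆ ∈ Subgroup.center P :=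
    X.comm_central (by rw [hA, hB]; exact C.commute_of_commChk hab 1 1)
  have hed' : ⁅E', F⁆ ∈ Subgroup.center P :=
    X.comm_central (by rw [hE, hF]; exact C.commute_of_commChk hed 1 1)
  have h1 : X.p (B ^ fstCoef D c.val d.val) = X.p ⁅C', F⁆ := by
    rw [map_zpow, hB, C.G.xu_zpow, map_commutatorElement, hC, hF, C.comm_of_oneChk hcd]
    simp only [mul_one]
  have h2 : X.p (E' ^ (- fstCoef D c.val a.val)) = X.p ⁅C'⁻¹, A⁆ := by
    rw [map_zpow, hE, C.G.xu_zpow, map_commutatorElement, map_inv, hC, hA, C.G.xu_inv,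
      C.comm_of_oneChk hca]
    push_cast
    congr 1
    ring
  rw [← CExt.comm_zpow_right hab', ← CExt.comm_zpow_left hed', X.comm_congr rfl h1,
    X.comm_congr h2 rfl]
  refine CExt.comm_transfer (C.dz_of_chk X hz hok (fun _ => hself) hdz a.isLt d.isLt 1 1 A F hA hF) ?_
  rw [← X.comm_congr h2 rfl, CExt.comm_zpow_left hed']
  exact zpow_mem hed' _

theorem dz_of_comm_one (hn : ∀ x : K, ∃ n : ℕ, (n : K) = x) {a b : Fin D.nroots} {A B : P}
    (hA : X.p A = C.G.xu a 1) (hB : X.p B = C.G.xu b 1) (h : Commute A B) : C.DZ X a b := by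
  intro t u A' B' hA' hB'
  obtain ⟨n, rfl⟩ := hn t
  obtain ⟨m, rfl⟩ := hn u
  refine X.commute_congr (a' := A ^ (n : ℤ)) (b' := B ^ (m : ℤ)) ?_ ?_ (h.zpow_zpow n m)
  · rw [hA', map_zpow, hA, C.G.xu_zpow, mul_one, Int.cast_natCast]
  · rw [hB', map_zpow, hB, C.G.xu_zpow, mul_one, Int.cast_natCast]

theorem dz_of_swap (hz : ∀ e, Univ.eEven e = true → ∀ c : Kˣ, c ^ e = 1)
    (hok : ∀ e, Univ.eOdd e = true → ∃ c : Kˣ, c ^ e ≠ 1) (hn : ∀ x : K, ∃ n : ℕ, (n : K) = x)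
    (h3 : (3 : K) = 0) {a b : Fin D.nroots} {x : ℕ × ℕ × ℕ × ℕ}
    (h : swapChk D a.val b.val x = true) : C.DZ X a b := by
  have hself : ∀ r, C.DZ X r r := C.dz_self_of_natCast X hn
  obtain ⟨c, d, e, c'⟩ := x
  simp only [swapChk, Bool.and_eq_true, Bool.or_eq_true, beq_iff_eq] at h
  obtain ⟨⟨⟨hs1, hs2⟩, heq⟩, hone⟩ := h
  have hbd := hs1
  simp only [stepChk, Bool.and_eq_true, decide_eq_true_eq] at hbd
  obtain ⟨⟨⟨⟨⟨⟨-, -, hc, hd, he⟩, -⟩, -⟩, -⟩, hab⟩, -⟩ := hbd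
  have hc' : c' < D.nroots := by
    have := hs2
    simp only [stepChk, Bool.and_eq_true, decide_eq_true_eq] at this
    exact this.1.1.1.1.1.2.2.1
  obtain ⟨A, hA⟩ := X.exists_lift (C.G.xu_mem (K := K) a 1)
  obtain ⟨B, hB⟩ := X.exists_lift (C.G.xu_mem (K := K) b 1)
  obtain ⟨E', hE⟩ := X.exists_lift (C.G.xu_mem (K := K) ⟨e, he⟩ 1)
  obtain ⟨F, hF⟩ := X.exists_lift (C.G.xu_mem (K := K) ⟨d, hd⟩ 1)
  have e1 := C.step_eq X hz hok hself (a := a) (b := b) (c := ⟨c, hc⟩) (d := ⟨d, hd⟩) (e := ⟨e, he⟩)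
    hs1 hA hB hE hF
  have e2 := C.step_eq X hz hok hself (a := ⟨e, he⟩) (b := ⟨d, hd⟩) (c := ⟨c', hc'⟩) (d := a) (e := b)
    hs2 hE hF hB hA
  rw [← commutatorElement_inv A B, inv_zpow, ← zpow_neg, neg_neg] at e2
  have hx : ∀ (u v : P) (p q r s : ℤ), u ^ p = v ^ (-q) → v ^ r = u ^ s → u ^ (p * r + q * s) = 1 := by
    intro u v p q r s k1 k2
    have k : u ^ (p * r) = u ^ (-(q * s)) := by
      rw [zpow_mul, k1, ← zpow_mul, mul_comm, zpow_mul, k2, ← zpow_mul]
      congr 1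
      ring
    rw [zpow_add, k, ← zpow_add, neg_add_cancel, zpow_zero]
  have hpow := hx _ _ _ _ _ _ e1 e2
  have hcen : ⁅A, B⁆ ∈ Subgroup.center P :=
    X.comm_central (by rw [hA, hB]; exact C.commute_of_commChk hab 1 1)
  have h2 : ⁅A, B⁆ ^ (2 : ℤ) = 1 := by
    simp only at heq hone hpow
    rw [heq] at hpow
    rcases hone with k | k <;> rw [k] at hpow
    · exact hpow
    · rw [show ((-1 : ℤ) + -1) = -2 from rfl, zpow_neg, inv_eq_one] at hpow
      exact hpow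
  have h3' : ⁅A, B⁆ ^ (3 : ℤ) = 1 := by
    rw [← CExt.comm_zpow_right hcen, X.comm_congr (b' := 1) rfl, commutatorElement_one_right]
    rw [map_zpow, hB, C.G.xu_zpow, map_one, mul_one, Int.cast_ofNat, h3, C.G.xu_zero]
  refine C.dz_of_comm_one X hn hA hB (commutatorElement_eq_one_iff_commute.1 ?_)
  calc ⁅A, B⁆ = ⁅A, B⁆ ^ (3 : ℤ) * (⁅A, B⁆ ^ (2 : ℤ))⁻¹ := by rw [← zpow_sub]; simp
    _ = 1 := by rw [h2, h3', inv_one, mul_one]

end Full

namespace Univ

/-- the exchanging steps for the pairs of roots of `D₄` without a certificate -/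
def swapD4 : List (ℕ × ℕ × ℕ × ℕ × ℕ × ℕ) :=
  [(0,0,1,9,6,4),(0,10,1,20,6,15),(0,11,1,21,6,16),(0,12,2,22,7,17),(0,13,3,22,8,17),
   (0,23,14,22,19,17),(1,2,0,15,1,12),(1,3,0,16,1,13),(1,6,0,19,1,18),(1,17,4,23,5,22),
   (1,20,7,23,10,22),(1,21,8,23,11,22),(2,0,1,9,3,7),(2,5,1,17,3,15),(2,11,1,21,3,19),
   (2,12,2,22,4,20),(2,18,6,22,8,20),(2,23,14,22,16,20),(3,0,1,9,2,8),(3,5,1,17,2,16),
   (3,10,1,20,2,19),(3,13,3,22,4,21),(3,18,6,22,7,21),(3,23,14,22,15,21)]

theorem three_eq_zero [Fintype K] (hK : Fintype.card K = 3) : (3 : K) = 0 := by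
  haveI := Fact.mk Nat.prime_three
  haveI : CharP K 3 := charP_of_card_eq_prime hK
  exact_mod_cast CharP.cast_eq_zero K 3

theorem torusData_D4_three (C : Full chevD4) [Fintype K] (hK : Fintype.card K = 3) {P : Type*}
    [Group P] (X : CExt chevD4 K P) : C.TorusData X := by
  obtain ⟨hz, hok⟩ := units_three hK
  have hn := natCast_surjective Nat.prime_three hK
  have h : ∀ i : Fin chevD4.rank, movesChk chevD4 eOdd (chevD4.simple i.val) = true := by
    decide +kernel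
  refine C.torusData X hz hok h (fun i => C.dz_self_of_natCast X hn _) fun i s h1 h2 => ?_
  have hc : ∀ i : Fin chevD4.rank, ∀ s : Fin chevD4.nroots, s.val = chevD4.simple i.val ∨
      s.val = chevD4.neg (chevD4.simple i.val) ∨
      certChk chevD4 eEven eOdd (chevD4.simple i.val) s.val = true ∨
      swapD4.any (fun e => e.1 == i.val && e.2.1 == s.val &&
        swapChk chevD4 (chevD4.simple i.val) s.val e.2.2) = true := by
    decide +kernel
  rcases hc i s with e | e | e | e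
  · exact absurd e h1
  · exact absurd e h2
  · exact Or.inl e
  · simp only [List.any_eq_true, Bool.and_eq_true] at e
    obtain ⟨x, -, -, hx⟩ := e
    rw [← C.G.simp_val i] at hx
    exact Or.inr (C.dz_of_swap X hz hok hn (three_eq_zero hK) hx)

end Univ

end CfsgLib.Lie.Chev
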