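import Cfsg.Agent.Lib.Lie.Chev.Univ.TwoE6
import Cfsg.Agent.Lib.Lie.Chev.Univ.TwoE7
import Cfsg.Agent.Lib.Lie.Chev.Univ.TwoE8

/-!
# Lifts over the field with two elements for types `E₆`, `E₇`, `E₈`
-/

set_option autoImplicit false

namespace CfsgLib.Lie.Chev.Univ.Two

open Cfsg.Lie

/-- lifts over the field with two elements -/
theorem exists_lift_two {D : ChevalleyDatum} (hD : D ∈ [chevE6, chevE7, chevE8]) (C : Full D)
    {K : Type*} [Field K] (hK : ∀ x : K, x = 0 ∨ x = 1) {P : Type*} [Group P] (X : CExt D K P) :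
    ∃ ψ : D.SteinbergCover K →* P, X.p.comp ψ = C.theta := by
  simp only [List.mem_cons, List.not_mem_nil, or_false] at hD
  haveI : Fact (RowsOK chevE6 fastE6) := ⟨rowsOK chkRows_E6⟩
  haveI : Fact (RowsOK chevE7 fastE7) := ⟨rowsOK chkRows_E7⟩
  haveI : Fact (RowsOK chevE8 fastE8) := ⟨rowsOK chkRows_E8⟩
  rcases hD with rfl | rfl | rfl
  · exact exists_hom C X hK baseE6_ok linksE6_ok
  · exact exists_hom C X hK baseE7_ok linksE7_ok
  · exact exists_hom C X hK baseE8_ok linksE8_ok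

end CfsgLib.Lie.Chev.Univ.Two
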