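import Cfsg.Agent.Lib.Lie.Chev.Univ.Main
import Cfsg.Agent.Lib.Lie.Chev.Univ.TwoTab

/-!
# Lifts for types `E₆`, `E₇`, `E₈` over every finite field
-/

set_option autoImplicit false

namespace CfsgLib.Lie.Chev.Univ

open Cfsg.Lie

theorem eq_zero_or_one {K : Type*} [Field K] [Fintype K] (h : Fintype.card K < 3) (x : K) :
    x = 0 ∨ x = 1 := by
  classical
  by_contra hx
  push Not at hx
  have h3 : ({0, 1, x} : Finset K).card = 3 :=
    Finset.card_eq_three.2 ⟨0, 1, x, zero_ne_one, hx.1.symm, hx.2.symm, rfl⟩
  have := Finset.card_le_univ ({0, 1, x} : Finset K)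
  omega

/-- types `E`, every finite field -/
theorem exists_lift_E {D : ChevalleyDatum} (hD : D ∈ [chevE6, chevE7, chevE8]) (C : Full D)
    {K : Type*} [Field K] [Fintype K] {P : Type*} [Group P] (X : CExt D K P) :
    ∃ ψ : D.SteinbergCover K →* P, X.p.comp ψ = C.theta := by
  by_cases h : 3 ≤ Fintype.card K
  · refine exists_lift_three ?_ C h X
    simp only [List.mem_cons, List.not_mem_nil, or_false] at hD ⊢
    tauto
  · exact Two.exists_lift_two hD C (eq_zero_or_one (by omega)) X

theorem E_not_small {D : ChevalleyDatum} (hD : D ∈ [chevE6, chevE7, chevE8]) :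
    D ∉ [chevB2, chevG2] := by
  intro h
  simp only [List.mem_cons, List.not_mem_nil, or_false] at hD h
  rcases hD with rfl | rfl | rfl <;> rcases h with h | h <;>
    exact absurd (congrArg ChevalleyDatum.nroots h) (by decide +kernel)

end CfsgLib.Lie.Chev.Univ
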