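import Cfsg.Agent.Lib.Lie.Chev.Univ.Multiplier
import Cfsg.Agent.Lib.Lie.Chev.CommTables
import Cfsg.Agent.Lib.Lie.Chev.TorData

/-!
# The centre of the Steinberg groups of type `E₆`, `E₇` inside type `E₈`
-/

set_option autoImplicit false
set_option maxRecDepth 100000

namespace CfsgLib.Lie.Chev.Univ

open Cfsg.Lie
open scoped MatrixGroups

/-- the relators with first root `r` -/
def embRow (D E : ChevalleyDatum) (e : ℕ → ℕ) (r : ℕ) : Bool :=
  decide (e r < E.nroots) &&
    e (D.neg r) == E.neg (e r) && decide (D.neg r < D.nroots) &&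
    (List.range D.nroots).all fun s => s == r || s == D.neg r ||
      (decide (e s ≠ e r ∧ e s ≠ E.neg (e r)) &&
        ((D.commTerms r s).map fun c => (e c.1, c.2)) == E.commTerms (e r) (e s) &&
        (D.commTerms r s).all fun c => decide (c.1 < D.nroots))

/-- the fundamental roots correspond -/
def embHead (D E : ChevalleyDatum) (e : ℕ → ℕ) : Bool :=
  decide (D.rank ≤ E.rank) &&
  (List.range D.rank).all (fun i => e (D.simple i) == E.simple i)

/-- the table maps the Steinberg relators to relators -/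
def embChk (D E : ChevalleyDatum) (e : ℕ → ℕ) : Bool :=
  embHead D E e && (List.range D.nroots).all (embRow D E e)

/-- a table packed in base `256` -/
noncomputable def byteAt (code r : ℕ) : ℕ := code / 256 ^ r % 256

/-- the row check on the fast tables -/
noncomputable def embRowF (D E : ChevalleyDatum) (fD fE : Fast) (e : ℕ → ℕ) (r : ℕ) : Bool :=
  Nat.blt (e r) E.nroots && Nat.beq (e (fD.negs.get r)) (fE.negs.get (e r)) &&
    allLt D.nroots fun s => Nat.beq s r || Nat.beq s (fD.negs.get r) ||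
      (!Nat.beq (e s) (e r) && !Nat.beq (e s) (fE.negs.get (e r)) &&
        ((commTermsF D fD r s).map fun c => (e c.1, c.2)) == commTermsF E fE (e r) (e s))

/-- the check on the fast tables -/
noncomputable def embChkF (D E : ChevalleyDatum) (fD fE : Fast) (e : ℕ → ℕ) : Bool :=
  embHead D E e && allLt D.nroots (embRowF D E fD fE e)

theorem embChk_of_fast {D E : ChevalleyDatum} {fD fE : Fast} {e : ℕ → ℕ}
    (CD : Full D) (CE : Full E) (hD : RowsOK D fD) (hE : RowsOK E fE)
    (h : embChkF D E fD fE e = true) : embChk D E e = true := by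
  simp only [embChkF, Bool.and_eq_true] at h
  obtain ⟨hh, hr'⟩ := h
  rw [embChk, hh, Bool.true_and, List.all_eq_true]
  intro r hr
  rw [List.mem_range] at hr
  have h0 := allLt_spec hr' r hr
  simp only [embRowF, Bool.and_eq_true, Nat.blt_eq, Nat.beq_eq, hD.negs r hr] at h0
  obtain ⟨⟨h1, h2⟩, h3⟩ := h0
  rw [hE.negs _ h1] at h2
  have hn : D.neg r < D.nroots := CD.G.neg_val ⟨r, hr⟩ ▸ (CD.G.negr ⟨r, hr⟩).isLt
  simp only [embRow, Bool.and_eq_true, decide_eq_true_eq, List.all_eq_true, List.mem_range,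
    beq_iff_eq, Bool.or_eq_true]
  refine ⟨⟨⟨h1, h2⟩, hn⟩, fun s hs => ?_⟩
  by_cases hsr : s = r
  · exact Or.inl (Or.inl hsr)
  by_cases hsn : s = D.neg r
  · exact Or.inl (Or.inr hsn)
  have h4 := allLt_spec h3 s hs
  simp only [Bool.or_eq_true, Nat.beq_eq, Bool.and_eq_true, Bool.not_eq_true', ← Bool.not_eq_true,
    beq_iff_eq, commTermsF_eq hD CD.keys hr hs] at h4
  rcases h4 with (x | x) | ⟨⟨n1, n2⟩, heq⟩
  · exact absurd x hsr
  · exact absurd x hsn
  have hse : e s < E.nroots := by
    have := allLt_spec hr' s hs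
    simp only [embRowF, Bool.and_eq_true, Nat.blt_eq] at this
    exact this.1.1
  rw [commTermsF_eq hE CE.keys h1 hse] at heq
  rw [hE.negs _ h1] at n2
  exact Or.inr ⟨⟨⟨n1, n2⟩, heq⟩,
    fun c hc => (CD.commTerms_weight (r := ⟨r, hr⟩) (s := ⟨s, hs⟩) hc).2.2.1⟩

variable {D E : ChevalleyDatum} {K : Type*} [Field K] {e : ℕ → ℕ}

theorem emb_spec (h : embChk D E e = true) :
    (D.rank ≤ E.rank) ∧ (∀ i < D.rank, e (D.simple i) = E.simple i) ∧
    (∀ r < D.nroots, e r < E.nroots ∧ e (D.neg r) = E.neg (e r) ∧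
      D.neg r < D.nroots) ∧
    (∀ r < D.nroots, ∀ s < D.nroots, s ≠ r → s ≠ D.neg r →
      e s ≠ e r ∧ e s ≠ E.neg (e r) ∧
      ((D.commTerms r s).map fun c => (e c.1, c.2)) = E.commTerms (e r) (e s) ∧
      ∀ c ∈ D.commTerms r s, c.1 < D.nroots) := by
  simp only [embChk, embHead, embRow, Bool.and_eq_true, decide_eq_true_eq, List.all_eq_true,
    List.mem_range,
    beq_iff_eq, Bool.or_eq_true] at h
  obtain ⟨⟨h1, h2⟩, h3⟩ := h
  refine ⟨h1, h2, fun r hr => ⟨(h3 r hr).1.1.1, (h3 r hr).1.1.2, (h3 r hr).1.2⟩,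
    fun r hr s hs n1 n2 => ?_⟩
  rcases (h3 r hr).2 s hs with (x | x) | x
  · exact absurd x n1
  · exact absurd x n2
  · exact ⟨x.1.1.1, x.1.1.2, x.1.2, x.2⟩

/-- the map of generators -/
def embGen (E : ChevalleyDatum) (e : ℕ → ℕ) (D : ChevalleyDatum) :
    FreeGroup (Fin D.nroots × K) →* FreeGroup (Fin E.nroots × K) :=
  FreeGroup.lift fun x => E.stX (e x.1.val) x.2

theorem embGen_stX {r : ℕ} (hr : r < D.nroots) (t : K) :
    embGen E e D (D.stX r t) = E.stX (e r) t := by
  rw [ChevalleyDatum.stX, dif_pos hr, embGen, FreeGroup.lift_apply_of]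

theorem embGen_word (l : List (ℕ × K)) (hl : ∀ c ∈ l, c.1 < D.nroots) :
    embGen E e D (D.stWord l) = E.stWord (l.map fun c => (e c.1, c.2)) := by
  rw [ChevalleyDatum.stWord, map_list_prod, ChevalleyDatum.stWord, List.map_map, List.map_map]
  refine congrArg List.prod (List.map_congr_left fun c hc => ?_)
  exact embGen_stX (hl c hc) c.2

theorem embGen_stH (h : embChk D E e = true) {r : ℕ} (hr : r < D.nroots) (t : K) :
    embGen E e D (D.stH r t) = E.stH (e r) t := by
  obtain ⟨-, -, h3, -⟩ := emb_spec h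
  obtain ⟨-, h5, h6⟩ := h3 r hr
  rw [ChevalleyDatum.stH, embGen_word, ChevalleyDatum.stH]
  · simp [ChevalleyDatum.hWord, ChevalleyDatum.nWord, h5]
  · intro c hc
    simp [ChevalleyDatum.hWord, ChevalleyDatum.nWord] at hc
    rcases hc with rfl | rfl | rfl | rfl | rfl | rfl <;> assumption

theorem embGen_rels (h : embChk D E e = true) :
    ∀ w ∈ D.steinbergRels K, embGen E e D w ∈ E.steinbergRels K := by
  obtain ⟨-, -, h3, h4⟩ := emb_spec h
  rintro w ((⟨r, t, u, hr, rfl⟩ | ⟨r, s, t, u, hr, hs, n1, n2, rfl⟩) | ⟨r, t, u, hr, ht, hu, rfl⟩)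
  · refine Or.inl (Or.inl ⟨e r, t, u, (h3 r hr).1, ?_⟩)
    rw [map_mul, map_mul, map_inv, embGen_stX hr, embGen_stX hr, embGen_stX hr]
  · obtain ⟨m1, m2, hmap, hb⟩ := h4 r hr s hs n1 n2
    refine Or.inl (Or.inr ⟨e r, e s, t, u, (h3 r hr).1, (h3 s hs).1, m1, m2, ?_⟩)
    simp only [map_mul, map_inv, embGen_stX hr, embGen_stX hs]
    rw [embGen_word]
    · simp only [ChevalleyDatum.commWord, ← hmap, List.map_map, Function.comp_def]
    · intro c hc
      simp only [ChevalleyDatum.commWord, List.mem_map] at hc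
      obtain ⟨a, ha, rfl⟩ := hc
      exact hb a ha
  · refine Or.inr ⟨e r, t, u, (h3 r hr).1, ht, hu, ?_⟩
    rw [map_mul, map_mul, map_inv, embGen_stH h hr, embGen_stH h hr, embGen_stH h hr]

/-- the map of Steinberg groups -/
noncomputable def embHom (h : embChk D E e = true) : D.SteinbergGroup K →* E.SteinbergGroup K :=
  PresentedGroup.toGroup
    (f := fun x => PresentedGroup.mk (E.steinbergRels K) (E.stX (e x.1.val) x.2)) fun w hw => by
    rw [show FreeGroup.lift (fun x : Fin D.nroots × K =>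
        PresentedGroup.mk (E.steinbergRels K) (E.stX (e x.1.val) x.2)) =
        (PresentedGroup.mk (E.steinbergRels K)).comp (embGen E e D) from
      FreeGroup.ext_hom _ _ fun x => by simp [embGen]]
    exact PresentedGroup.one_of_mem (embGen_rels h w hw)

theorem embHom_mk (h : embChk D E e = true) (w : FreeGroup (Fin D.nroots × K)) :
    embHom h (PresentedGroup.mk (D.steinbergRels K) w) =
      PresentedGroup.mk (E.steinbergRels K) (embGen E e D w) := by
  have : (embHom h).comp (PresentedGroup.mk (D.steinbergRels K)) =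
      (PresentedGroup.mk (E.steinbergRels K)).comp (embGen E e D) := by
    refine FreeGroup.ext_hom _ _ fun x => ?_
    show embHom h (PresentedGroup.of x) = _
    rw [embHom, PresentedGroup.toGroup.of]
    simp [embGen]
  exact DFunLike.congr_fun this w

variable (CD : Full D) (CE : Full E)

theorem torSt_injective_of_emb (h : embChk D E e = true) (hPD : ∀ i, CD.HasPair i)
    (hker : (CE.G.torθ (K := K)).ker = ⊥) :
    Function.Injective (CD.torSt (K := K) hPD) := by
  obtain ⟨hle, hs, -, -⟩ := emb_spec h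
  let ι : Fin D.rank → Fin E.rank := Fin.castLE hle
  let pad : (Fin D.rank → Kˣ) →* (Fin E.rank → Kˣ) :=
    { toFun := fun c j => if hj : j.val < D.rank then c ⟨j.val, hj⟩ else 1
      map_one' := funext fun j => by simp
      map_mul' := fun a b => funext fun j => by
        by_cases hj : j.val < D.rank <;> simp [hj] }
  have key : (CE.thetaSt (K := K)).comp ((embHom h).comp (CD.torSt hPD)) = CE.G.torθ.comp pad := by
    refine MonoidHom.ext fun c => ?_
    suffices hh : c ∈ ((CE.thetaSt (K := K)).comp ((embHom h).comp (CD.torSt hPD))).eqLocus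
        (CE.G.torθ.comp pad) from hh
    rw [← Finset.univ_prod_mulSingle c]
    refine Subgroup.prod_mem _ fun i _ => ?_
    show CE.thetaSt (embHom h (CD.torSt hPD (Pi.mulSingle i (c i)))) = CE.G.torθ (pad _)
    have hp : pad (Pi.mulSingle i (c i)) = Pi.mulSingle (ι i) (c i) := by
      funext j
      show (if hj : j.val < D.rank then (Pi.mulSingle i (c i) : Fin D.rank → Kˣ) ⟨j.val, hj⟩ else 1) = _
      by_cases hj : j = ι i
      · subst hj; simp [ι, i.isLt]
      · rw [show (Pi.mulSingle (ι i) (c i) : Fin E.rank → Kˣ) j = 1 from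
          Pi.mulSingle_eq_of_ne (M := fun _ : Fin E.rank => Kˣ) hj (c i)]
        split
        · exact Pi.mulSingle_eq_of_ne (M := fun _ : Fin D.rank => Kˣ)
            (fun e => hj (Fin.ext (congrArg Fin.val e :))) (c i)
        · rfl
    rw [hp, CD.torSt_single, CD.toSt_hc, embHom_mk,
      embGen_stH h (CD.G.simp_val i ▸ (CD.G.simp' i).isLt), hs i.val i.isLt, CE.G.torθ_single,
      ← CE.theta_hc, ← CE.thetaSt_toSt, CE.toSt_hc]
    rfl
  rw [injective_iff_map_eq_one]
  intro c hc
  have h1 := DFunLike.congr_fun key c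
  simp only [MonoidHom.comp_apply, hc, map_one] at h1
  have h2 : pad c = 1 := by
    rw [← Subgroup.mem_bot, ← hker, MonoidHom.mem_ker, ← h1]
  funext i
  have h3 := congrFun h2 (ι i)
  simp only [pad, MonoidHom.coe_mk, OneHom.coe_mk, ι, Fin.val_castLE, dif_pos i.isLt] at h3
  exact h3

theorem torθ_ker_cyclic [Fintype K] (T : KerData D.rank) (hT : T.Ok (cmat D)) (hk : T.k = 1) :
    IsCyclic (CD.G.torθ (K := K)).ker ∧
      Nat.card (CD.G.torθ (K := K)).ker = Nat.gcd T.d (Fintype.card K - 1) := by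
  classical
  let ker := (CD.G.torθ (K := K)).ker
  let a₀ : Fin T.k := ⟨0, by omega⟩
  let f : ker →* Kˣ := (Pi.evalMonoidHom (fun _ : Fin D.rank => Kˣ) (T.J a₀)).comp ker.subtype
  have hf : Function.Injective f := by
    rw [injective_iff_map_eq_one]
    intro c hc
    refine Subtype.ext (funext fun j => ?_)
    have hcomb : ∏ i, c.1 i ^ (∑ l, T.M j l * cmat D i l) = 1 := by
      simp only [prod_zpow_sum]
      rw [Finset.prod_comm]
      refine Finset.prod_eq_one fun l _ => ?_
      simp only [mul_comm (T.M j l), zpow_mul, Finset.prod_zpow]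
      rw [(CD.G.torθ_ker c.1).1 c.2 l, one_zpow]
    simp only [← hT.1 j, zpow_sub, prod_zpow_sum, Finset.prod_mul_distrib,
      Finset.prod_inv_distrib] at hcomb
    rw [Finset.prod_eq_single j (fun b _ hb => by simp [hb]) (by simp), if_pos rfl, zpow_one,
      Finset.prod_comm, mul_inv_eq_one] at hcomb
    rw [hcomb]
    refine Finset.prod_eq_one fun a _ => Finset.prod_eq_one fun i _ => ?_
    have ha : a = a₀ := Fin.ext (show a.val = 0 by omega)
    by_cases hi : i = T.J a
    · rw [hi, ha, show c.1 (T.J a₀) = 1 from hc, one_zpow]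
    · simp [hi]
  refine ⟨isCyclic_of_injective f hf, ?_⟩
  have h1 := CD.G.card_diagonal (K := K) T hT
  have h2 := Subgroup.card_eq_card_quotient_mul_card_subgroup ker
  rw [Nat.card_congr (QuotientGroup.quotientKerEquivRange (CD.G.torθ (K := K))).toEquiv,
    ← CD.G.diagonal_eq_range, Nat.card_fun, Nat.card_units, Nat.card_fin,
    Nat.card_eq_fintype_card (α := K), ← h1, hk, pow_one, mul_comm _ (Nat.card ker)] at h2
  refine (Nat.eq_of_mul_eq_mul_right ?_ h2).symm
  haveI : Finite ↥(D.diagonalSubgroup K) := by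
    rw [CD.G.diagonal_eq_range]; infer_instance
  exact Nat.card_pos

/-- the multiplier of a finite Chevalley group of type `E₆`, `E₇` -/
theorem hasCyclic_of_lifts.{v} {D E : ChevalleyDatum} {e : ℕ → ℕ} (CD : Full D) (CE : Full E)
    {K : Type v} [Field K] [Fintype K] (h : embChk D E e = true) (hPD : ∀ i, CD.HasPair i)
    (hperf : commutator (D.SteinbergCover K) = ⊤) (hker : (CE.G.torθ (K := K)).ker = ⊥)
    (T : KerData D.rank) (hT : T.Ok (cmat D)) (hk : T.k = 1)
    (hl : ∀ (Γ : Type v) [Group Γ] [Finite Γ] (X : CExt D K Γ),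
      ∃ ψ : D.SteinbergCover K →* Γ, X.p.comp ψ = CD.theta) :
    Cfsg.HasCyclicSchurMultiplier ↥(D.group K) (Nat.gcd T.d (Fintype.card K - 1)) := by
  obtain ⟨hc, hcard⟩ := torθ_ker_cyclic CD (K := K) T hT hk
  let e1 : (thetaG CD (K := K)).ker ≃* (CD.G.torθ (K := K)).ker :=
    (MulEquiv.subgroupCongr ((thetaG_ker CD).trans (CD.kerSt_eq hPD))).trans
      (Subgroup.equivMapOfInjective _ _ (torSt_injective_of_emb CD CE h hPD hker)).symm
  refine hasSchurMultiplier_of_lifts CD hPD hperf hl (e1.trans ?_)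
  exact (zmodCyclicMulEquiv hc).symm.trans
    (MulEquiv.ofBijective (AddMonoidHom.toMultiplicative
      ((ZMod.ringEquivCongr hcard).toAddEquiv.toAddMonoidHom))
      (ZMod.ringEquivCongr hcard).bijective)

end CfsgLib.Lie.Chev.Univ
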