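import Cfsg.Agent.Lib.Lie.Chev.Univ.Center
import Cfsg.Agent.Lib.Lie.Chev.FullAll

/-!
# The embedding tables of `E₆`, `E₇` in `E₈`
-/

set_option autoImplicit false
set_option maxRecDepth 100000

namespace CfsgLib.Lie.Chev.Univ

open Cfsg.Lie

/-- the roots of `E₆` among those of `E₈` -/
noncomputable def embE6 : ℕ → ℕ :=
  byteAt 0xccc2bcb9b8b2afaeabaaa9a6a5a4a3a29c9998959493908f8e8d8a8988878483827f7e7b7471706d6c6b686766656261605f5c5b5a5756534d4c4b4a4946454441403d3736332d23

/-- the roots of `E₇` among those of `E₈` -/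
noncomputable def embE7 : ℕ → ℕ :=
  byteAt 0xe2dbd6d2cfcdccc8c5c3c2bfbdbcbab9b8b5b3b2b0afaeacabaaa9a7a6a5a4a3a29f9d9c9a99989695949391908f8e8d8b8a89888785848382807f7e7c7b7976747371706f6d6c6b6a68676665646261605f5e5c5b5a595756555352504d4c4b4a49484645444341403f3d3c3a3736353332302d2c2a272322201d19140d

theorem embE6_chk : embChkF chevE6 chevE8 fastE6 fastE8 embE6 = true := by decide +kernel

theorem embE7_chk : embChkF chevE7 chevE8 fastE7 fastE8 embE7 = true := by decide +kernel

theorem embE6_ok : embChk chevE6 chevE8 embE6 = true :=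
  embChk_of_fast (fullOf (by simp)) (fullOf (by simp)) (rowsOK chkRows_E6) (rowsOK chkRows_E8) embE6_chk

theorem embE7_ok : embChk chevE7 chevE8 embE7 = true :=
  embChk_of_fast (fullOf (by simp)) (fullOf (by simp)) (rowsOK chkRows_E7) (rowsOK chkRows_E8) embE7_chk

end CfsgLib.Lie.Chev.Univ
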