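import Cfsg.Agent.Lib.Lie.Chev.Univ.TorusLift
import Cfsg.Agent.Lib.Lie.Chev.TorCard

/-!
# Certificates for the torus lifts, checked on the tables
-/

set_option autoImplicit false

namespace CfsgLib.Lie.Chev

open Cfsg.Lie
open scoped MatrixGroups commutatorElement

variable {D : ChevalleyDatum} {K : Type*} [Field K]

/-- the exponent of the coroot of `α` on the root `s` -/
def cexp (D : ChevalleyDatum) (α s : ℕ) : ℤ :=
  ((List.range D.rank).map fun j => (D.coroot.getD α #[]).getD j 0 * D.cartan j s).sum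

/-- some coroot is trivial on `r` and not on `s` -/
def certChk (D : ChevalleyDatum) (z ok : ℤ → Bool) (r s : ℕ) : Bool :=
  (List.range D.nroots).any fun α => z (cexp D α r) && ok (cexp D α s)

/-- some coroot moves `r` -/
def movesChk (D : ChevalleyDatum) (ok : ℤ → Bool) (r : ℕ) : Bool :=
  (List.range D.nroots).any fun α => ok (cexp D α r)

/-- some coroot has exponent `± 1` on `r` -/
def unitChk (D : ChevalleyDatum) (r : ℕ) : Bool :=
  (List.range D.nroots).any fun α => cexp D α r == 1 || cexp D α r == -1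

/-- the lifts of `r` and `s` commute: a coroot shows it, or the root is equal to the other -/
def dzChk (D : ChevalleyDatum) (z ok : ℤ → Bool) (selfOK : Bool) (r s : ℕ) : Bool :=
  (r == s && selfOK) ||
  (decide (r < D.nroots ∧ s < D.nroots ∧ r ≠ s ∧ s ≠ D.neg r) &&
    (D.commTerms r s).isEmpty && (certChk D z ok r s || certChk D z ok s r))

/-- `s` occurs linearly in the commutator of `c`, `d`, and this commutator commutes with `r` -/
def centreChk (D : ChevalleyDatum) (z ok okC : ℤ → Bool) (selfOK : Bool) (r s : ℕ) (e : ℕ × ℕ) : Bool :=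
  decide (r < D.nroots ∧ s < D.nroots ∧ e.1 < D.nroots ∧ e.2 < D.nroots ∧ e.1 ≠ r ∧ e.1 ≠ D.neg r ∧
    e.2 ≠ e.1 ∧ e.2 ≠ D.neg e.1) &&
  dzChk D z ok selfOK r e.2 &&
  ((D.commTerms r e.1).all fun x => dzChk D z ok selfOK e.2 x.1) &&
  match (D.commTerms e.1 e.2).span (fun x => x.1 != s) with
  | (pre, (_, k, m, n) :: post) =>
      okC k && (m == 1 || n == 1) && post.all (fun x => x.1 != s) &&
      (pre ++ post).all fun x => dzChk D z ok selfOK r x.1
  | _ => false

namespace Good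

variable (G : Good D)

theorem exists_coroot_sc (c : Kˣ) (α : ℕ) :
    ∃ h ∈ D.diagonalSubgroup K,
      ∀ s : Fin D.nroots, G.Sc h s ((c ^ cexp D α s.val : Kˣ) : K) := by
  refine ⟨G.torθ (fun j => c ^ (D.coroot.getD α #[]).getD j.val 0), ?_, fun s t => ?_⟩
  · rw [G.diagonal_eq_range]
    exact ⟨_, rfl⟩
  · rw [torθ, MonoidHom.comp_apply, G.tor_conj_xu]
    congr 3
    simp only [chi, MonoidHom.coe_mk, OneHom.coe_mk, ← Finset.prod_zpow, ← zpow_mul]
    rw [Finset.prod_comm]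
    have e : ∀ (f : Fin D.rank → ℤ) (S : Finset (Fin D.rank)),
        ∏ i ∈ S, c ^ f i = c ^ ∑ i ∈ S, f i := fun f S => (prod_zpow_sum S c f).symm
    simp only [e]
    congr 1
    rw [cexp, ← List.sum_toFinset _ List.nodup_range, List.toFinset_range,
      ← Fin.sum_univ_eq_sum_range fun j => (D.coroot.getD α #[]).getD j 0 * D.cartan j s.val]
    refine Finset.sum_congr rfl fun j _ => ?_
    show _ = _ * cart D j s
    rw [G.cart_eq j s, Finset.mul_sum]
    exact Finset.sum_congr rfl fun l _ => by ring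

theorem cert_of_chk {z ok : ℤ → Bool} (hz : ∀ e, z e = true → ∀ c : Kˣ, c ^ e = 1)
    (hok : ∀ e, ok e = true → ∃ c : Kˣ, c ^ e ≠ 1) {r s : Fin D.nroots}
    (h : certChk D z ok r.val s.val = true) : G.Cert K r s := by
  simp only [certChk, List.any_eq_true, Bool.and_eq_true] at h
  obtain ⟨α, -, h1, h2⟩ := h
  obtain ⟨c, hc⟩ := hok _ h2
  obtain ⟨g, hg, hsc⟩ := G.exists_coroot_sc c α
  refine ⟨g, hg, ?_, _, fun e => hc (Units.ext e), hsc s⟩
  have := hsc r
  rwa [hz _ h1 c, Units.val_one] at this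

theorem moves_of_chk {ok : ℤ → Bool}
    (hok : ∀ e, ok e = true → ∃ c : Kˣ, c ^ e ≠ 1) {r : Fin D.nroots}
    (h : movesChk D ok r.val = true) : G.Moves K r := by
  simp only [movesChk, List.any_eq_true] at h
  obtain ⟨α, -, h2⟩ := h
  obtain ⟨c, hc⟩ := hok _ h2
  obtain ⟨g, hg, hsc⟩ := G.exists_coroot_sc c α
  exact ⟨g, hg, _, fun e => hc (Units.ext e), hsc r⟩

theorem scales_of_chk {r : Fin D.nroots} (h : unitChk D r.val = true) (a : Kˣ) :
    ∃ g ∈ D.diagonalSubgroup K, G.Sc g r (a : K) := by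
  simp only [unitChk, List.any_eq_true, Bool.or_eq_true, beq_iff_eq] at h
  obtain ⟨α, -, h2⟩ := h
  rcases h2 with h2 | h2
  · obtain ⟨g, hg, hsc⟩ := G.exists_coroot_sc a α
    have := hsc r
    rw [h2, zpow_one] at this
    exact ⟨g, hg, this⟩
  · obtain ⟨g, hg, hsc⟩ := G.exists_coroot_sc a⁻¹ α
    have := hsc r
    rw [h2, zpow_neg_one, inv_inv] at this
    exact ⟨g, hg, this⟩

end Good

namespace Full

variable (C : Full D) {P : Type*} [Group P] (X : CExt D K P)

theorem commute_of_empty {r s : Fin D.nroots} (h1 : s ≠ r) (h2 : s ≠ C.G.negr r)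
    (he : D.commTerms r.val s.val = []) (t u : K) : Commute (C.G.xu r t) (C.G.xu s u) := by
  have e := congrArg C.theta (C.comm_xc r s h1 h2 t u)
  rw [he] at e
  simp only [List.map_nil, List.prod_nil, mul_one, map_mul, map_inv, C.theta_xc] at e
  show _ * _ = _ * _
  calc C.G.xu r t * C.G.xu s u = C.G.xu r t * ((C.G.xu r t)⁻¹ * C.G.xu s u * C.G.xu r t) := by rw [e]
    _ = _ := by group

theorem dz_of_chk {z ok : ℤ → Bool} (hz : ∀ e, z e = true → ∀ c : Kˣ, c ^ e = 1)
    (hok : ∀ e, ok e = true → ∃ c : Kˣ, c ^ e ≠ 1) {selfOK : Bool}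
    (hself : selfOK = true → ∀ r, C.DZ X r r) {a b : ℕ}
    (h : dzChk D z ok selfOK a b = true) (ha : a < D.nroots) (hb : b < D.nroots) :
    C.DZ X ⟨a, ha⟩ ⟨b, hb⟩ := by
  simp only [dzChk, Bool.or_eq_true, Bool.and_eq_true, beq_iff_eq, decide_eq_true_eq,
    List.isEmpty_iff] at h
  rcases h with ⟨rfl, hs⟩ | ⟨⟨⟨-, -, hne, hng⟩, he⟩, hc⟩
  · exact hself hs _
  · have h1 : (⟨b, hb⟩ : Fin D.nroots) ≠ ⟨a, ha⟩ := fun e => hne (congrArg Fin.val e).symm
    have h2 : (⟨b, hb⟩ : Fin D.nroots) ≠ C.G.negr ⟨a, ha⟩ := fun e =>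
      hng ((congrArg Fin.val e).trans (C.G.neg_val ⟨a, ha⟩).symm)
    have hcomm := C.commute_of_empty (K := K) h1 h2 he
    rcases hc with hc | hc
    · exact C.dz_of_cert X (C.G.cert_of_chk hz hok hc) hcomm
    · exact (C.dz_of_cert X (C.G.cert_of_chk hz hok (r := ⟨b, hb⟩) (s := ⟨a, ha⟩) hc)
        fun t u => (hcomm u t).symm).symm

theorem _root_.CfsgLib.Lie.Chev.CExt.commL_commutator {P : Type*} [Group P] (X : CExt D K P) {g c d w : GL D.Idx K} (hg : g ∈ D.group K) (hc : c ∈ D.group K)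
    (hd : d ∈ D.group K) (hw : w ∈ D.group K) (h1 : X.CommL g d) (h2 : g * c * g⁻¹ = c * w)
    (h3 : X.CommL w d) : X.CommL g ⁅c, d⁆ := by
  intro A B hA hB
  obtain ⟨C', hC⟩ := X.exists_lift hc
  obtain ⟨E', hE⟩ := X.exists_lift hd
  obtain ⟨W, hW⟩ := X.exists_lift hw
  refine X.commute_congr (b' := ⁅C', E'⁆) rfl (by rw [hB, map_commutatorElement, hC, hE]) ?_
  have e1 : X.p (A * C' * A⁻¹) = X.p (C' * W) := by
    rw [map_mul, map_mul, map_inv, map_mul, hA, hC, hW, h2]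
  have e2 : A * E' * A⁻¹ = E' := by rw [(h1 A E' hA hE).eq, mul_inv_cancel_right]
  have e3 : A * ⁅C', E'⁆ * A⁻¹ = ⁅C', E'⁆ := by
    rw [conjugate_commutatorElement, e2, X.comm_congr e1 rfl,
      show ⁅C' * W, E'⁆ = C' * ⁅W, E'⁆ * C'⁻¹ * ⁅C', E'⁆ by simp only [commutatorElement_def]; group,
      commutatorElement_eq_one_iff_commute.2 (h3 W E' hW hE), mul_one, mul_inv_cancel, one_mul]
  exact mul_inv_eq_iff_eq_mul.1 e3

theorem dz_of_centre {z ok okC : ℤ → Bool} (hz : ∀ e, z e = true → ∀ c : Kˣ, c ^ e = 1)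
    (hok : ∀ e, ok e = true → ∃ c : Kˣ, c ^ e ≠ 1) (hokC : ∀ k, okC k = true → (k : K) ≠ 0)
    {selfOK : Bool} (hself : selfOK = true → ∀ r, C.DZ X r r)
    {a b : ℕ} {e : ℕ × ℕ} (h : centreChk D z ok okC selfOK a b e = true)
    (ha : a < D.nroots) (hb : b < D.nroots) : C.DZ X ⟨a, ha⟩ ⟨b, hb⟩ := by
  obtain ⟨c, d⟩ := e
  simp only [centreChk, Bool.and_eq_true, decide_eq_true_eq, List.all_eq_true] at h
  obtain ⟨⟨⟨⟨-, -, hc, hd, hca, hcn, hdc, hdn⟩, hrd⟩, hrc⟩, hm⟩ := h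
  rw [List.span_eq_takeWhile_dropWhile] at hm
  split at hm
  case h_2 => exact absurd hm (by simp)
  case h_1 x pre b' k m n post hspan =>
    simp only [Bool.and_eq_true, Bool.or_eq_true, beq_iff_eq, List.all_eq_true, bne_iff_ne] at hm
    obtain ⟨⟨⟨hk, hmn⟩, hpost⟩, hoth⟩ := hm
    simp only [Prod.mk.injEq] at hspan
    obtain ⟨hs1, hs2⟩ := hspan
    have hb' : b' = b := by
      have := List.head?_dropWhile_not (fun x : ℕ × ℤ × ℕ × ℕ => x.1 != b) (D.commTerms c d)
      rw [hs2] at this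
      simpa using this
    subst hb'
    have hl : D.commTerms c d = pre ++ (b', k, m, n) :: post := by
      rw [← hs1, ← hs2, List.takeWhile_append_dropWhile]
    intro t u
    let M := X.CommLs (C.G.xu ⟨a, ha⟩ t)
    suffices hin : C.G.xu ⟨b', hb⟩ u ∈ M from hin.2
    have hcd : ∀ v w : K, ⁅C.G.xu ⟨c, hc⟩ v, C.G.xu ⟨d, hd⟩ w⁆ ∈ M := by
      intro v w
      refine ⟨?_, ?_⟩
      · exact mul_mem (mul_mem (mul_mem (C.G.xu_mem _ _) (C.G.xu_mem _ _)) (inv_mem (C.G.xu_mem _ _)))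
          (inv_mem (C.G.xu_mem _ _))
      have hne1 : (⟨c, hc⟩ : Fin D.nroots) ≠ ⟨a, ha⟩ := fun e => hca (congrArg Fin.val e)
      have hne2 : (⟨c, hc⟩ : Fin D.nroots) ≠ C.G.negr ⟨a, ha⟩ := fun e =>
        hcn ((congrArg Fin.val e).trans (C.G.neg_val ⟨a, ha⟩).symm)
      have e := congrArg C.theta (C.comm_xc ⟨a, ha⟩ ⟨c, hc⟩ hne1 hne2 (-t) v)
      simp only [map_mul, map_inv, C.theta_xc, map_list_prod, List.map_map] at e
      rw [C.G.xu_inv, neg_neg, ← inv_inv (C.G.xu ⟨a, ha⟩ (-t)), C.G.xu_inv ⟨a, ha⟩ (-t), neg_neg] at e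
      have hw : ((D.commTerms a c).map (C.theta ∘ fun x =>
          D.scGen K x.1 ((x.2.1 : K) * ((- -t) ^ x.2.2.1 * v ^ x.2.2.2)))).prod ∈
          X.CommLs (C.G.xu ⟨d, hd⟩ w) := by
        refine list_prod_mem fun y hy => ?_
        obtain ⟨x, hx, rfl⟩ := List.mem_map.1 hy
        obtain ⟨-, -, hx', -⟩ := C.commTerms_weight (r := ⟨a, ha⟩) (s := ⟨c, hc⟩) hx
        rw [Function.comp_apply,
          show D.scGen K x.1 ((x.2.1 : K) * ((- -t) ^ x.2.2.1 * v ^ x.2.2.2)) =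
            C.G.xc ⟨x.1, hx'⟩ ((x.2.1 : K) * ((- -t) ^ x.2.2.1 * v ^ x.2.2.2)) from rfl, C.theta_xc]
        exact ⟨C.G.xu_mem _ _, C.dz_of_chk X hz hok hself (hrc x hx) hd hx' w _⟩
      simp only [neg_neg] at hw e
      exact X.commL_commutator (C.G.xu_mem _ _) (C.G.xu_mem _ _) (C.G.xu_mem _ _) hw.1
        (C.dz_of_chk X hz hok hself hrd ha hd t w) e (CExt.CommL.symm X hw.2)
    have hterm : ∀ v w : K, C.G.xu ⟨b', hb⟩ ((k : K) * ((-v) ^ m * w ^ n)) ∈ M := by
      intro v w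
      have hne1 : (⟨d, hd⟩ : Fin D.nroots) ≠ ⟨c, hc⟩ := fun e => hdc (congrArg Fin.val e)
      have hne2 : (⟨d, hd⟩ : Fin D.nroots) ≠ C.G.negr ⟨c, hc⟩ := fun e =>
        hdn ((congrArg Fin.val e).trans (C.G.neg_val ⟨c, hc⟩).symm)
      have e := congrArg C.theta (C.comm_xc ⟨c, hc⟩ ⟨d, hd⟩ hne1 hne2 v w)
      simp only [map_mul, map_inv, C.theta_xc, map_list_prod, List.map_map] at e
      have hprod : ((D.commTerms c d).map (C.theta ∘ fun x =>
          D.scGen K x.1 ((x.2.1 : K) * ((-v) ^ x.2.2.1 * w ^ x.2.2.2)))).prod ∈ M := by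
        have hh := inv_mem (hcd (-v) (-w))
        have e' : ⁅C.G.xu ⟨c, hc⟩ (-v), C.G.xu ⟨d, hd⟩ (-w)⁆⁻¹ = (C.G.xu ⟨d, hd⟩ w)⁻¹ *
            ((C.G.xu ⟨c, hc⟩ v)⁻¹ * C.G.xu ⟨d, hd⟩ w * C.G.xu ⟨c, hc⟩ v) := by
          rw [commutatorElement_inv, commutatorElement_def, ← C.G.xu_inv, ← C.G.xu_inv]
          group
        rw [e', e, inv_mul_cancel_left] at hh
        exact hh
      have hin : ∀ L : List (ℕ × ℤ × ℕ × ℕ), (∀ x ∈ L, x ∈ pre ++ post) →
          (L.map (C.theta ∘ fun x =>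
            D.scGen K x.1 ((x.2.1 : K) * ((-v) ^ x.2.2.1 * w ^ x.2.2.2)))).prod ∈ M := by
        intro L hL
        refine list_prod_mem fun y hy => ?_
        obtain ⟨x, hx, rfl⟩ := List.mem_map.1 hy
        have hx0 := hL x hx
        have hxm : x ∈ D.commTerms c d := by
          rw [hl]
          rcases List.mem_append.1 hx0 with h | h
          · exact List.mem_append.2 (Or.inl h)
          · exact List.mem_append.2 (Or.inr (List.mem_cons_of_mem _ h))
        obtain ⟨-, -, hx', -⟩ := C.commTerms_weight (r := ⟨c, hc⟩) (s := ⟨d, hd⟩) hxm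
        rw [Function.comp_apply,
          show D.scGen K x.1 ((x.2.1 : K) * ((-v) ^ x.2.2.1 * w ^ x.2.2.2)) =
            C.G.xc ⟨x.1, hx'⟩ ((x.2.1 : K) * ((-v) ^ x.2.2.1 * w ^ x.2.2.2)) from rfl, C.theta_xc]
        exact ⟨C.G.xu_mem _ _, C.dz_of_chk X hz hok hself (hoth x hx0) ha hx' t _⟩
      rw [hl, List.map_append, List.map_cons, List.prod_append, List.prod_cons] at hprod
      have := mul_mem (mul_mem (inv_mem (hin pre fun x hx => List.mem_append.2 (Or.inl hx))) hprod)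
        (inv_mem (hin post fun x hx => List.mem_append.2 (Or.inr hx)))
      rw [inv_mul_cancel_left, mul_inv_cancel_right, Function.comp_apply,
        show D.scGen K b' ((k : K) * ((-v) ^ m * w ^ n)) =
          C.G.xc ⟨b', hb⟩ ((k : K) * ((-v) ^ m * w ^ n)) from rfl, C.theta_xc] at this
      exact this
    have hk0 := hokC k hk
    rcases hmn with rfl | rfl
    · have := hterm (-(u / k)) 1
      rwa [neg_neg, pow_one, one_pow, mul_one, mul_div_cancel₀ _ hk0] at this
    · have := hterm (-1) (u / k)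
      rwa [neg_neg, pow_one, one_pow, one_mul, mul_div_cancel₀ _ hk0] at this

/-- a biadditive pairing invariant under all scalars vanishes on large fields -/
theorem dz_self_of_scales {r : Fin D.nroots} {x : K} (hx : x ≠ 0) (hx1 : 1 + x ≠ 0)
    (hx2 : x ^ 2 + x + 1 ≠ 0) (hs : ∀ a : Kˣ, ∃ g ∈ D.diagonalSubgroup K, C.G.Sc g r (a : K)) :
    C.DZ X r r := by
  have hcomm : ∀ t u : K, Commute (C.G.xu r t) (C.G.xu r u) := fun t u => by
    show _ * _ = _ * _
    rw [← C.G.xu_add, ← C.G.xu_add, add_comm]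
  letI : CommGroup (Subgroup.center P) :=
    { (inferInstance : Group (Subgroup.center P)) with
      mul_comm := fun a b => Subtype.ext (Subgroup.mem_center_iff.1 b.2 a) }
  choose L hL using fun t : K => X.exists_lift (C.G.xu_mem (K := K) r t)
  let B : K → K → Subgroup.center P := fun t u =>
    ⟨⁅L t, L u⁆, X.comm_central (by rw [hL, hL]; exact hcomm t u)⟩
  have hB : ∀ {t u : K} {a b : P}, X.p a = C.G.xu r t → X.p b = C.G.xu r u → ⁅a, b⁆ = B t u :=
    fun ha hb => X.comm_congr (ha.trans (hL _).symm) (hb.trans (hL _).symm)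
  have addR : ∀ t u v : K, B t (u + v) = B t u * B t v := fun t u v => Subtype.ext <| by
    rw [Subgroup.coe_mul, ← hB (hL t) (b := L u * L v) (by rw [map_mul, hL, hL, C.G.xu_add]),
      X.comm_add_right (by rw [hL, hL]; exact hcomm t v)]
  have anti : ∀ t u : K, B t u = (B u t)⁻¹ := fun t u => Subtype.ext <| by
    rw [Subgroup.coe_inv]
    exact (commutatorElement_inv (L u) (L t)).symm
  have addL : ∀ t u v : K, B (t + u) v = B t v * B u v := fun t u v => by
    rw [anti, addR, mul_inv, ← anti, ← anti]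
  have inv : ∀ a : K, a ≠ 0 → ∀ t u : K, B (a * t) (a * u) = B t u := by
    intro a ha t u
    obtain ⟨g, hg, hsc⟩ := hs (Units.mk0 a ha)
    obtain ⟨q, hq⟩ := X.exists_lift (C.G.diagonal_le_group hg)
    refine Subtype.ext ?_
    have e : q * ⁅L t, L u⁆ * q⁻¹ = ⁅L t, L u⁆ := by
      rw [Subgroup.mem_center_iff.1 (B t u).2 q, mul_inv_cancel_right]
    rw [conjugate_commutatorElement] at e
    rw [← hB (a := q * L t * q⁻¹) (b := q * L u * q⁻¹), e]
    · rw [map_mul, map_mul, map_inv, hq, hL, hsc]; rfl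
    · rw [map_mul, map_mul, map_inv, hq, hL, hsc]; rfl
  have key : ∀ t u : K, B t (x * u) * B (x * t) u * B t u = 1 := by
    intro t u
    have h := inv (1 + x) hx1 t u
    rw [add_mul, add_mul, one_mul, one_mul, addL, addR, addR, inv x hx t u] at h
    rw [mul_assoc, mul_eq_left] at h
    rw [mul_assoc]
    exact h
  have key2 : ∀ t u : K, B ((x ^ 2 + x + 1) * t) u = 1 := by
    intro t u
    have h := key (x * t) u
    rw [inv x hx] at h
    rw [show (x ^ 2 + x + 1) * t = x * (x * t) + x * t + t by ring, addL, addL, ← h]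
    rw [mul_comm _ (B t u), mul_assoc]
  intro t u a b ha hb
  rw [← commutatorElement_eq_one_iff_commute, hB ha hb,
    ← mul_div_cancel₀ t hx2, key2, OneMemClass.coe_one]

theorem dz_self_of_natCast (hK : ∀ x : K, ∃ n : ℕ, (n : K) = x) (r : Fin D.nroots) :
    C.DZ X r r := by
  have hpow : ∀ n : ℕ, C.G.xu r (1 : K) ^ n = C.G.xu r (n : K) := by
    intro n
    induction n with
    | zero => simp [C.G.xu_zero]
    | succ n ih => rw [pow_succ, ih, Nat.cast_succ, C.G.xu_add]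
  intro t u a b ha hb
  obtain ⟨n, rfl⟩ := hK t
  obtain ⟨m, rfl⟩ := hK u
  obtain ⟨c, hc⟩ := X.exists_lift (C.G.xu_mem (K := K) r 1)
  exact X.commute_congr (a' := c ^ n) (b' := c ^ m) (by rw [ha, map_pow, hc, hpow])
    (by rw [hb, map_pow, hc, hpow]) (Commute.pow_pow (Commute.refl c) n m)

/-- the torus data from the checks on the fundamental roots -/
theorem torusData {z ok : ℤ → Bool} (hz : ∀ e, z e = true → ∀ c : Kˣ, c ^ e = 1)
    (hok : ∀ e, ok e = true → ∃ c : Kˣ, c ^ e ≠ 1)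
    (hmv : ∀ i : Fin D.rank, movesChk D ok (D.simple i.val) = true)
    (hself : ∀ i : Fin D.rank, C.DZ X (C.G.simp' i) (C.G.simp' i))
    (hc : ∀ (i : Fin D.rank) (s : Fin D.nroots), s.val ≠ D.simple i.val →
      s.val ≠ D.neg (D.simple i.val) →
      certChk D z ok (D.simple i.val) s.val = true ∨ C.DZ X (C.G.simp' i) s) :
    C.TorusData X where
  moves := C.G.orbit _ (fun i _ => C.G.moves_of_chk hok (by rw [C.G.simp_val]; exact hmv i))
    fun i _ h => Good.Moves.w C.G i h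
  self := C.G.orbit _ (fun i _ => hself i) fun i _ h => h.w i
  cert := by
    refine C.G.orbit _ (fun i _ s h1 h2 => ?_) fun i r hr s h1 h2 => ?_
    · have h1' : s.val ≠ D.simple i.val := fun e => h1 (Fin.ext (e.trans (C.G.simp_val i).symm))
      have h2' : s.val ≠ D.neg (D.simple i.val) := fun e =>
        h2 (Fin.ext (by rw [← C.G.neg_val, C.G.simp_val]; exact e))
      rcases hc i s h1' h2' with h | h
      · exact Or.inl (C.G.cert_of_chk hz hok (by rw [C.G.simp_val]; exact h))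
      · exact Or.inr (Or.inr h)
    · have e1 : C.G.w i s ≠ r := fun e => h1 (by rw [← C.G.w_w i s, e])
      have e2 : C.G.w i s ≠ C.G.negr r := fun e => h2 (by rw [← C.G.w_w i s, e, C.G.w_negr])
      have e3 : C.G.w i (C.G.w i s) = s := C.G.w_w i s
      rcases hr (C.G.w i s) e1 e2 with h | h | h
      · exact Or.inl (e3 ▸ Good.Cert.w C.G i h)
      · exact Or.inr (Or.inl (e3 ▸ Good.Cert.w C.G i h))
      · exact Or.inr (Or.inr (e3 ▸ h.w i))

end Full

end CfsgLib.Lie.Chev
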