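import Cfsg.Agent.Lib.Lie.Chev.CoverPerfect
import Cfsg.Agent.Lib.Lie.Chev.CoverPairs

/-!
# Central extensions of a Chevalley group: lifts of the root subgroups

A family of additive lifts of the root elements, equivariant under the `n_{p_i}(1)`, gives a
homomorphism from the Steinberg cover as soon as it is injective on the positive root groups.
-/

set_option autoImplicit false

namespace CfsgLib.Lie.Chev

open Cfsg.Lie
open scoped MatrixGroups

variable {D : ChevalleyDatum} {K : Type*} [Field K]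

/-- a central extension of the Chevalley group -/
structure CExt (D : ChevalleyDatum) (K : Type*) [Field K] (P : Type*) [Group P] where
  /-- the projection -/
  p : P →* GL D.Idx K
  cen : p.ker ≤ Subgroup.center P
  range : p.range = D.group K

namespace CExt

variable {P : Type*} [Group P] (X : CExt D K P)

theorem exists_lift {g : GL D.Idx K} (hg : g ∈ D.group K) : ∃ a, X.p a = g := by
  rwa [← X.range, MonoidHom.mem_range] at hg

theorem eq_mul_central {a b : P} (h : X.p a = X.p b) :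
    ∃ z ∈ Subgroup.center P, a = b * z :=
  ⟨b⁻¹ * a, X.cen (by rw [MonoidHom.mem_ker, map_mul, map_inv, h, inv_mul_cancel]), by group⟩

theorem conj_congr {a b : P} (h : X.p a = X.p b) (x : P) : a * x * a⁻¹ = b * x * b⁻¹ := by
  obtain ⟨z, hz, rfl⟩ := X.eq_mul_central h
  rw [mul_assoc b z x, ← Subgroup.mem_center_iff.1 hz x]
  group

end CExt

namespace Full

variable (C : Full D) {P : Type*} [Group P] (X : CExt D K P)

/-- lifts of the root elements -/
structure Lifts where
  /-- the lift of `x_r(t)` -/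
  φ : Fin D.nroots → K → P
  lift : ∀ r t, X.p (φ r t) = C.G.xu r t
  add : ∀ r t u, φ r (t + u) = φ r t * φ r u
  equi : ∀ i r (q : P), X.p q = C.G.nU i → ∀ t,
    q * φ r t * q⁻¹ = φ (C.G.w i r) ((C.G.eta i r : K) * t)

namespace Lifts

variable {C X} (L : C.Lifts X)

theorem φ_zero (r : Fin D.nroots) : L.φ r 0 = 1 := by
  have h := L.add r 0 0
  rw [add_zero] at h
  exact right_eq_mul.1 h

theorem φ_inv (r : Fin D.nroots) (t : K) : (L.φ r t)⁻¹ = L.φ r (-t) := by
  rw [inv_eq_iff_mul_eq_one, ← L.add, add_neg_cancel, L.φ_zero]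

/-- the subgroup of the lifts of the positive root elements of index at least `m` -/
def Uh (m : ℕ) : Subgroup P :=
  Subgroup.closure {g | ∃ (r : Fin D.nroots) (t : K), m ≤ r.val ∧ D.IsPosRoot r.val ∧ g = L.φ r t}

theorem mem_Uh {m : ℕ} {r : Fin D.nroots} (hm : m ≤ r.val) (hr : D.IsPosRoot r.val) (t : K) :
    L.φ r t ∈ L.Uh m := Subgroup.subset_closure ⟨r, t, hm, hr, rfl⟩

theorem map_Uh (m : ℕ) : (L.Uh m).map X.p = C.G.Uge m := by
  rw [Uh, MonoidHom.map_closure, Good.Uge]
  congr 1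
  ext g
  constructor
  · rintro ⟨_, ⟨r, t, h1, h2, rfl⟩, rfl⟩; exact ⟨r, t, h1, h2, L.lift r t⟩
  · rintro ⟨r, t, h1, h2, rfl⟩; exact ⟨_, ⟨r, t, h1, h2, rfl⟩, L.lift r t⟩

theorem exists_mem_Uh {m : ℕ} {g : GL D.Idx K} (hg : g ∈ C.G.Uge m) :
    ∃ a ∈ L.Uh m, X.p a = g := by
  rwa [← L.map_Uh, Subgroup.mem_map] at hg

/-- the projection is injective above `m` -/
def InjFrom (m : ℕ) : Prop := ∀ g ∈ L.Uh m, X.p g = 1 → g = 1

/-- the lifts of positive root elements normalise the filtration -/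
def StepOK : Prop :=
  ∀ r s : Fin D.nroots, D.IsPosRoot r.val → D.IsPosRoot s.val → r.val < s.val →
    L.InjFrom (r.val + 1) → ∀ t u, L.φ r t * L.φ s u * (L.φ r t)⁻¹ ∈ L.Uh (r.val + 1)

theorem inj_from (hS : L.StepOK) : ∀ (n m : ℕ), m + n = D.nroots → L.InjFrom m := by
  intro n
  induction n with
  | zero =>
    intro m hm g hg _
    have : L.Uh m ≤ ⊥ := by
      rw [Uh, Subgroup.closure_le]
      rintro _ ⟨r, t, hr, -, rfl⟩
      have := r.isLt
      omega
    exact Subgroup.mem_bot.1 (this hg)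
  | succ n ih =>
    intro m hm g hg h1
    by_cases hq : D.IsPosRoot m
    · let q : Fin D.nroots := ⟨m, by omega⟩
      have hI : L.InjFrom (m + 1) := ih (m + 1) (by omega)
      have hnorm : ∀ (u : K) (v : P), v ∈ L.Uh (m + 1) →
          L.φ q u * v * (L.φ q u)⁻¹ ∈ L.Uh (m + 1) := by
        intro u v hv
        have hle : L.Uh (m + 1) ≤
            (L.Uh (m + 1)).comap (MulAut.conj (L.φ q u)).toMonoidHom := by
          conv_lhs => rw [Uh]
          rw [Subgroup.closure_le]
          rintro _ ⟨s, t, hs1, hs2, rfl⟩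
          exact hS q s hq hs2 hs1 hI u t
        exact hle hv
      have hdec : ∀ g ∈ L.Uh m, ∃ t : K, ∃ v ∈ L.Uh (m + 1), g = L.φ q t * v := by
        intro g hg
        have step : ∀ (s : Fin D.nroots) (u : K), m ≤ s.val → D.IsPosRoot s.val → ∀ y : P,
            (∃ t : K, ∃ v ∈ L.Uh (m + 1), y = L.φ q t * v) →
            ∃ t : K, ∃ v ∈ L.Uh (m + 1), L.φ s u * y = L.φ q t * v := by
          rintro s u hs1 hs2 _ ⟨t, v, hv, rfl⟩
          rcases Nat.eq_or_lt_of_le hs1 with e | e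
          · have : s = q := Fin.ext e.symm
            subst this
            exact ⟨u + t, v, hv, by rw [L.add, mul_assoc]⟩
          · refine ⟨t, L.φ q (-t) * L.φ s u * (L.φ q (-t))⁻¹ * v,
              mul_mem (hnorm _ _ (L.mem_Uh e hs2 u)) hv, ?_⟩
            rw [← L.φ_inv]
            group
        induction hg using Subgroup.closure_induction_left with
        | one => exact ⟨0, 1, one_mem _, by rw [L.φ_zero, mul_one]⟩
        | mul_left x hx y _ ihy =>
          obtain ⟨s, u, hs1, hs2, rfl⟩ := hx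
          exact step s u hs1 hs2 y ihy
        | inv_mul_cancel x hx y _ ihy =>
          obtain ⟨s, u, hs1, hs2, rfl⟩ := hx
          rw [L.φ_inv]
          exact step s (-u) hs1 hs2 y ihy
      obtain ⟨t, v, hv, rfl⟩ := hdec g hg
      have hpv : X.p v ∈ C.G.Uge (K := K) (q.val + 1) := L.map_Uh (m + 1) ▸ ⟨v, hv, rfl⟩
      have e : C.G.xu q t * X.p v = C.G.xu q 0 * 1 := by
        rw [C.G.xu_zero, one_mul, ← L.lift, ← map_mul, h1]
      obtain ⟨ht, hv1⟩ := C.G.lowest_unique (r := q) hq hpv (one_mem _) e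
      rw [ht, L.φ_zero, one_mul, hI v hv hv1]
    · refine ih (m + 1) (by omega) g ?_ h1
      refine (Subgroup.closure_le _).2 ?_ hg
      rintro _ ⟨r, t, hr1, hr2, rfl⟩
      refine L.mem_Uh ?_ hr2 t
      rcases Nat.eq_or_lt_of_le hr1 with e | e
      · exact absurd (e ▸ hr2) hq
      · exact e

theorem inj_zero (hS : L.StepOK) : L.InjFrom 0 := L.inj_from hS D.nroots 0 (Nat.zero_add _)

theorem equi_nw : ∀ (l : List (Fin D.rank)) (s : Fin D.nroots), ∃ a : Kˣ, ∀ q : P,
    X.p q = C.G.nw l → ∀ t, q * L.φ s t * q⁻¹ = L.φ (C.G.pw l s) ((a : K) * t) := by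
  intro l
  induction l with
  | nil =>
    intro s
    refine ⟨1, fun q hq t => ?_⟩
    rw [X.conj_congr (b := 1) (by rw [hq, map_one]; rfl), C.G.pw_nil]
    simp
  | cons i l ih =>
    intro s
    obtain ⟨a, ha⟩ := ih s
    have he : IsUnit ((C.G.eta i (C.G.pw l s) : ℤ) : K) := by
      rcases C.G.eta_unit i (C.G.pw l s) with e | e <;> rw [e] <;> simp
    refine ⟨he.unit * a, fun q hq t => ?_⟩
    obtain ⟨n, hn⟩ := X.exists_lift (C.G.nU_mem_group (K := K) i)
    have hq' : X.p (n⁻¹ * q) = C.G.nw l := by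
      rw [map_mul, map_inv, hn, hq, Good.nw_cons, inv_mul_cancel_left]
    rw [show q * L.φ s t * q⁻¹ = n * ((n⁻¹ * q) * L.φ s t * (n⁻¹ * q)⁻¹) * n⁻¹ by group,
      ha _ hq', L.equi i _ n hn, C.G.pw_cons, Equiv.Perm.mul_apply, C.G.sP_apply, Units.val_mul,
      IsUnit.unit_spec, mul_assoc]

end Lifts

theorem exists_pos_system (r s : Fin D.nroots) (hsr : s ≠ r) (hsn : s ≠ C.G.negr r) :
    ∃ l, C.G.PS l r ∧ C.G.PS l s := by
  revert s
  revert r
  refine C.G.orbit _ (fun i _ s hsr hsn => ?_) fun i r hr s hsr hsn => ?_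
  · by_cases hs : D.IsPosRoot s.val
    · exact ⟨[], by simpa [Good.PS, C.G.pw_nil] using C.G.simp_pos i,
        by simpa [Good.PS, C.G.pw_nil] using hs⟩
    · obtain ⟨l, hl⟩ := C.G.exists_longest
      refine ⟨l ++ [i], ?_, ?_⟩ <;>
        rw [Good.PS, C.G.pw_append, C.G.pw_single, Equiv.Perm.mul_apply, C.G.sP_apply]
      · rw [C.G.w_simp, C.G.pw_negr, C.G.negr_pos_iff]
        exact hl _ (C.G.simp_pos i)
      · have h1 : D.IsPosRoot (C.G.negr s).val := (C.G.negr_pos_iff s).2 hs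
        have h2 : C.G.negr s ≠ C.G.simp' i := fun e => hsn (by rw [← e, C.G.negr_negr])
        have h3 := C.G.w_pos h1 h2
        have h4 := hl _ h3
        rw [C.G.w_negr, C.G.pw_negr, C.G.negr_pos_iff, not_not] at h4
        exact h4
  · obtain ⟨l, h1, h2⟩ := hr (C.G.w i s) (fun e => hsr (by rw [← C.G.w_w i s, e]))
      (fun e => hsn (by rw [← C.G.w_w i s, e, C.G.w_negr]))
    refine ⟨l ++ [i], ?_, ?_⟩ <;>
      rw [Good.PS, C.G.pw_append, C.G.pw_single, Equiv.Perm.mul_apply, C.G.sP_apply]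
    · rw [C.G.w_w]; exact h1
    · exact h2

theorem rel_of_inj {X : CExt D K P} (L : C.Lifts X) (hI : L.InjFrom 0) :
    ∀ w ∈ D.steinbergRelsAB K,
      FreeGroup.lift (fun x : Fin D.nroots × K => L.φ x.1 x.2) w = 1 := by
  have hp : ∀ w, X.p (FreeGroup.lift (fun x : Fin D.nroots × K => L.φ x.1 x.2) w) =
      C.theta (PresentedGroup.mk (D.steinbergRelsAB K) w) := by
    intro w
    have : X.p.comp (FreeGroup.lift fun x : Fin D.nroots × K => L.φ x.1 x.2) =
        C.theta.comp (PresentedGroup.mk (D.steinbergRelsAB K)) := by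
      refine FreeGroup.ext_hom _ _ fun x => ?_
      simp only [MonoidHom.comp_apply, FreeGroup.lift_apply_of]
      rw [L.lift]
      exact ((congrArg C.theta (C.G.xc_eq_of x.1 x.2)).symm.trans (C.theta_xc _ _)).symm
    exact DFunLike.congr_fun this w
  intro w hw
  have hw1 := hp w
  rw [PresentedGroup.one_of_mem hw, map_one] at hw1
  rcases hw with ⟨r, t, u, hr, rfl⟩ | ⟨r, s, t, u, hr, hs, h1, h2, rfl⟩
  · simp [ChevalleyDatum.stX, hr, L.add]
  · obtain ⟨l, hlr, hls⟩ := C.exists_pos_system ⟨r, hr⟩ ⟨s, hs⟩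
      (fun e => h1 (congrArg Fin.val e))
      (fun e => h2 ((congrArg Fin.val e).trans (C.G.neg_val ⟨r, hr⟩).symm))
    set F := FreeGroup.lift fun x : Fin D.nroots × K => L.φ x.1 x.2
    have hnwg : (C.G.nw l : GL D.Idx K) ∈ D.group K :=
      C.G.monomial_le_group (C.G.nw_mem_monomial l)
    obtain ⟨q, hq⟩ := X.exists_lift hnwg
    let M : Subgroup (FreeGroup (Fin D.nroots × K)) :=
      (L.Uh 0).comap ((MulAut.conj q).toMonoidHom.comp F)
    have hx : ∀ (k : ℕ) (v : K), (∀ h : k < D.nroots, C.G.PS l ⟨k, h⟩) → D.stX k v ∈ M := by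
      intro k v hk
      show q * F (D.stX k v) * q⁻¹ ∈ L.Uh 0
      by_cases h : k < D.nroots
      · obtain ⟨a, ha⟩ := L.equi_nw l ⟨k, h⟩
        have e : F (D.stX k v) = L.φ ⟨k, h⟩ v := by simp [F, ChevalleyDatum.stX, h]
        rw [e, ha q hq]
        exact L.mem_Uh (Nat.zero_le _) (hk h) _
      · simp [ChevalleyDatum.stX, h]
    have hword : D.stWord (D.commWord K r s t u) ∈ M := by
      refine list_prod_mem fun x hx' => ?_
      obtain ⟨c, hc, rfl⟩ := List.mem_map.1 hx'
      simp only [ChevalleyDatum.commWord, List.mem_map] at hc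
      obtain ⟨d, hd, rfl⟩ := hc
      refine hx _ _ fun h => ?_
      obtain ⟨hi, hj, hk, e⟩ := C.commTerms_weight (r := ⟨r, hr⟩) (s := ⟨s, hs⟩) hd
      have e' := congrArg C.G.ht (C.G.rho_pw_comb l e)
      simp only [C.G.ht_add, C.G.ht_smul] at e'
      have h3 := (C.G.isPosRoot_iff _).1 hlr
      have h4 := (C.G.isPosRoot_iff _).1 hls
      have hi' : (1 : ℤ) ≤ d.2.2.1 := by exact_mod_cast hi
      have hj' : (1 : ℤ) ≤ d.2.2.2 := by exact_mod_cast hj
      exact (C.G.isPosRoot_iff _).2 (by nlinarith)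
    have hr' : ∀ v : K, D.stX r v ∈ M := fun v => hx r v fun _ => hlr
    have hs' : ∀ v : K, D.stX s v ∈ M := fun v => hx s v fun _ => hls
    have hm : (D.stX s u)⁻¹ * (D.stX r t)⁻¹ * D.stX s u * D.stX r t *
        (D.stWord (D.commWord K r s t u))⁻¹ ∈ M :=
      mul_mem (mul_mem (mul_mem (mul_mem (inv_mem (hs' u)) (inv_mem (hr' t))) (hs' u)) (hr' t))
        (inv_mem hword)
    have h3 := hI _ hm (by
      show X.p (q * F _ * q⁻¹) = 1
      rw [map_mul, map_mul, map_inv, hw1, mul_one, mul_inv_cancel])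
    exact conj_eq_one_iff.1 h3

theorem exists_hom {X : CExt D K P} (L : C.Lifts X) (hS : L.StepOK) :
    ∃ ψ : D.SteinbergCover K →* P, X.p.comp ψ = C.theta :=
  ⟨PresentedGroup.toGroup (C.rel_of_inj L (L.inj_zero hS)), PresentedGroup.ext fun x => by
    rw [MonoidHom.comp_apply, PresentedGroup.toGroup.of, L.lift, ← C.theta_xc]
    exact congrArg C.theta (C.G.xc_eq_of _ _)⟩

end Full

end CfsgLib.Lie.Chev
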