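import Cfsg.Agent.Lib.Lie.Chev.Univ.Certs

/-!
# Lifts over the fields with at least three elements
-/

set_option autoImplicit false
set_option maxRecDepth 100000

namespace CfsgLib.Lie.Chev.Univ

open Cfsg.Lie
open scoped MatrixGroups

variable {K : Type*} [Field K]

/-- the exponent is zero -/
def eZero : ℤ → Bool := fun e => e == 0
/-- the exponent is at most `2` -/
def eTwo : ℤ → Bool := fun e => e == 1 || e == -1 || e == 2 || e == -2
/-- the exponent is at most `3` -/
def eThree : ℤ → Bool := fun e => eTwo e || e == 3 || e == -3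
/-- the exponent is even -/
def eEven : ℤ → Bool := fun e => e % 2 == 0
/-- the exponent is odd -/
def eOdd : ℤ → Bool := fun e => e % 2 == 1
/-- a coefficient `± 1` -/
def cOne : ℤ → Bool := fun e => e == 1 || e == -1
/-- a coefficient prime to `3` -/
def cThree : ℤ → Bool := fun e => e == 1 || e == -1 || e == 2 || e == -2

theorem exists_pow_ne {n : ℕ} (hn : 0 < n) (hK : ∃ s : Finset K, n + 1 < s.card) :
    ∃ c : Kˣ, c ^ (n : ℤ) ≠ 1 := by
  classical
  obtain ⟨s, hs⟩ := hK
  by_contra h
  push Not at h
  have hsub : s ⊆ insert 0 (Polynomial.nthRoots n (1 : K)).toFinset := by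
    intro x _
    rcases eq_or_ne x 0 with rfl | hx
    · exact Finset.mem_insert_self _ _
    · refine Finset.mem_insert_of_mem ?_
      rw [Multiset.mem_toFinset, Polynomial.mem_nthRoots hn]
      have := congrArg Units.val (h (Units.mk0 x hx))
      simpa using this
  have h1 := Finset.card_le_card hsub
  have h2 := Finset.card_insert_le (0 : K) (Polynomial.nthRoots n (1 : K)).toFinset
  have h3 := (Multiset.toFinset_card_le (Polynomial.nthRoots n (1 : K))).trans
    (Polynomial.card_nthRoots n (1 : K))
  omega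

theorem exists_zpow_ne {n : ℕ} (hn : 0 < n) (hK : ∃ s : Finset K, n + 1 < s.card) {e : ℤ}
    (he : e = n ∨ e = -(n : ℤ)) : ∃ c : Kˣ, c ^ e ≠ 1 := by
  obtain ⟨c, hc⟩ := exists_pow_ne hn hK
  refine ⟨c, ?_⟩
  rcases he with rfl | rfl
  · exact hc
  · rw [zpow_neg, inv_ne_one]; exact hc

theorem eTwo_spec (hK : ∃ s : Finset K, 3 < s.card) :
    ∀ e, eTwo e = true → ∃ c : Kˣ, c ^ e ≠ 1 := by
  intro e he
  obtain ⟨s, hs⟩ := hK
  simp only [eTwo, Bool.or_eq_true, beq_iff_eq] at he
  rcases he with ((rfl | rfl) | rfl) | rfl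
  · exact exists_zpow_ne (n := 1) one_pos ⟨s, by omega⟩ (Or.inl rfl)
  · exact exists_zpow_ne (n := 1) one_pos ⟨s, by omega⟩ (Or.inr rfl)
  · exact exists_zpow_ne (n := 2) two_pos ⟨s, hs⟩ (Or.inl rfl)
  · exact exists_zpow_ne (n := 2) two_pos ⟨s, hs⟩ (Or.inr rfl)

theorem eThree_spec (hK : ∃ s : Finset K, 4 < s.card) :
    ∀ e, eThree e = true → ∃ c : Kˣ, c ^ e ≠ 1 := by
  intro e he
  obtain ⟨s, hs⟩ := hK
  simp only [eThree, Bool.or_eq_true, beq_iff_eq] at he
  rcases he with (he | rfl) | rfl
  · exact eTwo_spec ⟨s, by omega⟩ e he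
  · exact exists_zpow_ne (n := 3) three_pos ⟨s, hs⟩ (Or.inl rfl)
  · exact exists_zpow_ne (n := 3) three_pos ⟨s, hs⟩ (Or.inr rfl)

theorem eZero_spec : ∀ e, eZero e = true → ∀ c : Kˣ, c ^ e = 1 := by
  intro e he c
  simp only [eZero, beq_iff_eq] at he
  rw [he, zpow_zero]

theorem exists_quad (hK : ∃ s : Finset K, 4 < s.card) :
    ∃ x : K, x ≠ 0 ∧ 1 + x ≠ 0 ∧ x ^ 2 + x + 1 ≠ 0 := by
  classical
  obtain ⟨s, hs⟩ := hK
  by_contra h
  push Not at h
  by_cases hr : ∃ w : K, w ^ 2 + w + 1 = 0
  · obtain ⟨w, hw⟩ := hr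
    have hsub : s ⊆ {0, -1, w, -1 - w} := by
      intro x _
      simp only [Finset.mem_insert, Finset.mem_singleton]
      by_cases h0 : x = 0
      · exact Or.inl h0
      by_cases h1 : 1 + x = 0
      · exact Or.inr (Or.inl (eq_neg_of_add_eq_zero_right h1))
      · have hx := h x h0 h1
        have : (x - w) * (x + w + 1) = 0 := by linear_combination hx - hw
        rcases mul_eq_zero.1 this with h2 | h2
        · exact Or.inr (Or.inr (Or.inl (sub_eq_zero.1 h2)))
        · exact Or.inr (Or.inr (Or.inr (by linear_combination h2)))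
    have h1 := Finset.card_le_card hsub
    have h2 := Finset.card_le_four (a := (0 : K)) (b := -1) (c := w) (d := -1 - w)
    omega
  · have hsub : s ⊆ {0, -1} := by
      intro x _
      simp only [Finset.mem_insert, Finset.mem_singleton]
      by_cases h0 : x = 0
      · exact Or.inl h0
      by_cases h1 : 1 + x = 0
      · exact Or.inr (eq_neg_of_add_eq_zero_right h1)
      · exact absurd ⟨x, h x h0 h1⟩ hr
    have h1 := Finset.card_le_card hsub
    have h2 : ({0, -1} : Finset K).card ≤ 2 := Finset.card_le_two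
    omega

/-- all the checks that do not need an exception -/
def allChk (D : ChevalleyDatum) (z ok : ℤ → Bool) : Bool :=
  (List.range D.rank).all fun i => movesChk D ok (D.simple i) &&
    (List.range D.nroots).all fun s => s == D.simple i || s == D.neg (D.simple i) ||
      certChk D z ok (D.simple i) s

theorem torusData_of_allChk {D : ChevalleyDatum} (C : Full D) {P : Type*} [Group P] (X : CExt D K P)
    {z ok : ℤ → Bool} (hz : ∀ e, z e = true → ∀ c : Kˣ, c ^ e = 1)
    (hok : ∀ e, ok e = true → ∃ c : Kˣ, c ^ e ≠ 1) (h : allChk D z ok = true)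
    (hself : ∀ i : Fin D.rank, C.DZ X (C.G.simp' i) (C.G.simp' i)) : C.TorusData X := by
  simp only [allChk, List.all_eq_true, Bool.and_eq_true, Bool.or_eq_true, beq_iff_eq] at h
  refine C.torusData X hz hok (fun i => (h i.val (List.mem_range.2 i.isLt)).1) hself
    fun i s h1 h2 => Or.inl ?_
  rcases (h i.val (List.mem_range.2 i.isLt)).2 s.val (List.mem_range.2 s.isLt) with (e | e) | e
  · exact absurd e h1
  · exact absurd e h2
  · exact e

/-- the self commutation checks -/
def selfChk (D : ChevalleyDatum) (tab : List (ℕ × ℕ)) : Bool :=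
  (List.range D.rank).all fun i =>
    centreChk D eZero eTwo cOne false (D.simple i) (D.simple i) (tab.getD i (0, 0))

theorem self_of_selfChk {D : ChevalleyDatum} (C : Full D) {P : Type*} [Group P] (X : CExt D K P)
    (hK : ∃ s : Finset K, 3 < s.card) (tab : List (ℕ × ℕ)) (h : selfChk D tab = true) (i : Fin D.rank) :
    C.DZ X (C.G.simp' i) (C.G.simp' i) := by
  rw [selfChk, List.all_eq_true] at h
  have h' := h i.val (List.mem_range.2 i.isLt)
  rw [← C.G.simp_val i] at h'
  exact C.dz_of_centre X eZero_spec (eTwo_spec hK)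
    (fun k hk => by
      simp only [cOne, Bool.or_eq_true, beq_iff_eq] at hk
      rcases hk with rfl | rfl <;> simp)
    (fun e => by cases e) h' _ _

/-- at least four elements, all types but `G₂` -/
theorem torusData_four {D : ChevalleyDatum}
    (hD : D ∈ [chevB2, chevD4, chevF4, chevE6, chevE7, chevE8]) (C : Full D)
    (hK : ∃ s : Finset K, 3 < s.card) {P : Type*} [Group P] (X : CExt D K P) : C.TorusData X := by
  have key : ∀ tab, allChk D eZero eTwo = true → selfChk D tab = true → C.TorusData X :=
    fun tab h1 h2 => torusData_of_allChk C X eZero_spec (eTwo_spec hK) h1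
      (self_of_selfChk C X hK tab h2)
  simp only [List.mem_cons, List.not_mem_nil, or_false] at hD
  rcases hD with rfl | rfl | rfl | rfl | rfl | rfl
  · exact key [(1,7),(0,6)] (by decide +kernel) (by decide +kernel)
  · exact key [(6,22),(1,23),(3,22),(2,22)] (by decide +kernel) (by decide +kernel)
  · exact key [(7,44),(3,45),(0,39),(1,47)] (by decide +kernel) (by decide +kernel)
  · exact key [(16,66),(1,71),(5,69),(2,70),(3,69),(4,68)] (by decide +kernel) (by decide +kernel)
  · exact key [(1,125),(7,122),(2,124),(3,123),(4,122),(5,121),(6,120)] (by decide +kernel)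
      (by decide +kernel)
  · exact key [(14,233),(7,234),(6,234),(5,235),(4,236),(3,237),(2,238),(1,239)] (by decide +kernel)
      (by decide +kernel)

/-- type `G₂`, at least five elements -/
theorem torusData_G2 (C : Full chevG2) (hK : ∃ s : Finset K, 4 < s.card) {P : Type*} [Group P]
    (X : CExt chevG2 K P) : C.TorusData X := by
  refine torusData_of_allChk C X eZero_spec (eThree_spec hK) (by decide +kernel) fun i => ?_
  obtain ⟨x, h0, h1, h2⟩ := exists_quad hK
  have h : ∀ j : Fin chevG2.rank, unitChk chevG2 (chevG2.simple j.val) = true := by decide +kernel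
  exact C.dz_self_of_scales X h0 h1 h2 (C.G.scales_of_chk (by rw [C.G.simp_val]; exact h i))

theorem natCast_surjective [Fintype K] {p : ℕ} (hp : p.Prime) (hK : Fintype.card K = p) (x : K) :
    ∃ n : ℕ, (n : K) = x := by
  haveI := Fact.mk hp
  haveI : CharP K p := charP_of_card_eq_prime hK
  let f := ZMod.castHom (dvd_refl p) K
  have hb : Function.Bijective f := by
    rw [Fintype.bijective_iff_injective_and_card]
    exact ⟨f.injective, by rw [ZMod.card, hK]⟩
  obtain ⟨a, ha⟩ := hb.2 x
  refine ⟨a.val, ?_⟩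
  rw [← ha, ZMod.castHom_apply, ZMod.cast_eq_val]

theorem units_three [Fintype K] (hK : Fintype.card K = 3) :
    (∀ e, eEven e = true → ∀ c : Kˣ, c ^ e = 1) ∧ (∀ e, eOdd e = true → ∃ c : Kˣ, c ^ e ≠ 1) := by
  classical
  have h2 : ∀ c : Kˣ, c ^ (2 : ℤ) = 1 := fun c => by
    have := pow_card_eq_one (x := c)
    rw [Fintype.card_units, hK] at this
    exact_mod_cast this
  refine ⟨fun e he c => ?_, fun e he => ?_⟩
  · simp only [eEven, beq_iff_eq] at he
    rw [← Int.emod_add_mul_ediv e 2, he, zero_add, zpow_mul, h2, one_zpow]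
  · simp only [eOdd, beq_iff_eq] at he
    refine ⟨-1, ?_⟩
    rw [← Int.emod_add_mul_ediv e 2, he, zpow_add, zpow_mul, h2, one_zpow, mul_one, zpow_one]
    intro h
    have h' : (-1 : K) = 1 := congrArg Units.val h
    have h3 : (2 : K) = 0 := by linear_combination -h'
    haveI := Fact.mk Nat.prime_three
    haveI : CharP K 3 := charP_of_card_eq_prime hK
    have := (CharP.cast_eq_zero_iff K 3 2).1 (by exact_mod_cast h3)
    omega

/-- three elements: types `E` and `F₄` -/
theorem torusData_three {D : ChevalleyDatum} (hD : D ∈ [chevF4, chevE6, chevE7, chevE8]) (C : Full D)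
    [Fintype K] (hK : Fintype.card K = 3) {P : Type*} [Group P] (X : CExt D K P) : C.TorusData X := by
  obtain ⟨hz, hok⟩ := units_three hK
  have hself : ∀ r, C.DZ X r r :=
    C.dz_self_of_natCast X (natCast_surjective Nat.prime_three hK)
  have hC : ∀ k, cThree k = true → (k : K) ≠ 0 := by
    intro k hk
    haveI := Fact.mk Nat.prime_three
    haveI : CharP K 3 := charP_of_card_eq_prime hK
    rw [Ne, CharP.intCast_eq_zero_iff K 3]
    simp only [cThree, Bool.or_eq_true, beq_iff_eq] at hk
    omega
  simp only [List.mem_cons, List.not_mem_nil, or_false] at hD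
  rcases hD with rfl | rfl | rfl | rfl
  · have h : ∀ i : Fin chevF4.rank, movesChk chevF4 eOdd (chevF4.simple i.val) = true := by decide +kernel
    refine C.torusData X hz hok h (fun i => hself _) fun i s h1 h2 => ?_
    have hc : ∀ i : Fin chevF4.rank, ∀ s : Fin chevF4.nroots, s.val = chevF4.simple i.val ∨
        s.val = chevF4.neg (chevF4.simple i.val) ∨ certChk chevF4 eEven eOdd (chevF4.simple i.val) s.val = true ∨
        ([(2,0,3,18),(2,6,0,29),(2,17,0,36),(2,30,0,40),(2,41,0,44),(2,47,6,44),(3,2,3,20),(3,4,2,27),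
          (3,15,2,34),(3,32,2,40),(3,43,2,44),(3,45,4,44)] : List (ℕ × ℕ × ℕ × ℕ)).any (fun e =>
          e.1 == i.val && e.2.1 == s.val &&
            centreChk chevF4 eEven eOdd cThree true (chevF4.simple i.val) s.val e.2.2) = true := by
      decide +kernel
    rcases hc i s with e | e | e | e
    · exact absurd e h1
    · exact absurd e h2
    · exact Or.inl e
    · simp only [List.any_eq_true, Bool.and_eq_true] at e
      obtain ⟨x, -, -, hx⟩ := e
      rw [← C.G.simp_val i] at hx
      exact Or.inr (C.dz_of_centre X hz hok hC (fun _ => hself) hx _ _)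
  all_goals exact torusData_of_allChk C X hz hok (by decide +kernel) fun i => hself _

/-- every type, at least five elements -/
theorem exists_lift_five {D : ChevalleyDatum}
    (hD : D ∈ [chevG2, chevB2, chevD4, chevF4, chevE6, chevE7, chevE8]) (C : Full D)
    (hK : ∃ s : Finset K, 4 < s.card) {P : Type*} [Group P] (X : CExt D K P) :
    ∃ ψ : D.SteinbergCover K →* P, X.p.comp ψ = C.theta := by
  rcases List.mem_cons.1 hD with rfl | h
  · exact (torusData_G2 C hK X).exists_hom
  · obtain ⟨s, hs⟩ := hK
    exact (torusData_four h C ⟨s, by omega⟩ X).exists_hom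

/-- types `F₄` and `E`, at least three elements -/
theorem exists_lift_three {D : ChevalleyDatum} (hD : D ∈ [chevF4, chevE6, chevE7, chevE8]) (C : Full D)
    [Fintype K] (hK : 3 ≤ Fintype.card K) {P : Type*} [Group P] (X : CExt D K P) :
    ∃ ψ : D.SteinbergCover K →* P, X.p.comp ψ = C.theta := by
  rcases eq_or_lt_of_le hK with e | e
  · exact (torusData_three hD C e.symm X).exists_hom
  · refine (torusData_four ?_ C ⟨Finset.univ, by rw [Finset.card_univ]; omega⟩ X).exists_hom
    simp only [List.mem_cons, List.not_mem_nil, or_false] at hD ⊢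
    tauto

end CfsgLib.Lie.Chev.Univ
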