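import Cfsg.Agent.Lib.Lie.Chev.Univ.Frame
import Cfsg.Agent.Lib.Lie.Chev.CoverTorus
import Cfsg.Agent.Lib.PGroup.StemExtension
import Cfsg.Agent.Lib.PGroup.SchurUniversal
import Cfsg.Prelude.Def_KGroupFacts

/-!
# Schur multipliers from the universality of the cover
-/

set_option autoImplicit false

namespace CfsgLib.Lie.Chev.Univ

open Cfsg.Lie
open scoped MatrixGroups

variable {D : ChevalleyDatum} {K : Type*} [Field K] (C : Full D) [Finite K]

theorem toSt_bijective (hP : ∀ i, C.HasPair i) : Function.Bijective (C.toSt (K := K)) := by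
  refine ⟨?_, C.toSt_surjective⟩
  obtain ⟨e, he⟩ := C.exists_cover_equiv (K := K) hP
  have : (C.toSt (K := K)) = e.toMonoidHom := PresentedGroup.ext fun x => by
    show C.toSt (PresentedGroup.of x) = e (PresentedGroup.of x)
    rw [Full.toSt, PresentedGroup.toGroup.of, show (PresentedGroup.of x : D.SteinbergCover K) =
      D.scGen K x.1 x.2 from (C.G.xc_eq_of x.1 x.2).symm, he]
    simp [ChevalleyDatum.stGen, ChevalleyDatum.stX, PresentedGroup.of]
  rw [this]
  exact e.injective

theorem kerSt_finite (hP : ∀ i, C.HasPair i) : Finite (C.thetaSt (K := K)).ker := by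
  rw [C.kerSt_eq hP]
  exact ((Set.toFinite ((C.G.torθ (K := K)).ker : Set (Fin D.rank → Kˣ))).image _).to_subtype

theorem steinbergGroup_finite (hP : ∀ i, C.HasPair i) : Finite (D.SteinbergGroup K) := by
  haveI := kerSt_finite C (K := K) hP
  haveI : Finite (C.thetaSt (K := K)).range := inferInstance
  haveI : Finite (D.SteinbergGroup K ⧸ (C.thetaSt (K := K)).ker) :=
    Finite.of_equiv _ (QuotientGroup.quotientKerEquivRange (C.thetaSt (K := K))).symm.toEquiv
  exact Finite.of_subgroup_quotient (C.thetaSt (K := K)).ker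

/-- `thetaSt` onto the Chevalley group -/
noncomputable def thetaG : D.SteinbergGroup K →* ↥(D.group K) :=
  (C.thetaSt (K := K)).codRestrict _ fun x => C.thetaSt_range (K := K) ▸ ⟨x, rfl⟩

theorem thetaG_ker : (thetaG C (K := K)).ker = (C.thetaSt (K := K)).ker :=
  MonoidHom.ker_codRestrict _ _ _

include C in
theorem steinbergGroup_perfect (hperf : commutator (D.SteinbergCover K) = ⊤) :
    commutator (D.SteinbergGroup K) = ⊤ := by
  have h := congrArg (Subgroup.map (C.toSt (K := K))) hperf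
  rwa [commutator_def, Subgroup.map_commutator, Subgroup.map_top_of_surjective _ C.toSt_surjective,
    ← commutator_def] at h

theorem thetaG_stem (hP : ∀ i, C.HasPair i) (hperf : commutator (D.SteinbergCover K) = ⊤) :
    Cfsg.IsStemExtension (thetaG C (K := K)) := by
  refine ⟨fun g => ?_, ?_, ?_⟩
  · obtain ⟨x, hx⟩ := (C.thetaSt_range (K := K)).ge g.2
    exact ⟨x, Subtype.ext hx⟩
  · rw [thetaG_ker, C.kerSt_eq_center hP]
  · rw [steinbergGroup_perfect C hperf]; exact le_top

/-- a stem extension of the Chevalley group as a central extension into the linear group -/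
def stemExt {Γ : Type*} [Group Γ] {τ : Γ →* ↥(D.group K)} (hτ : Cfsg.IsStemExtension τ) :
    CExt D K Γ where
  p := (D.group K).subtype.comp τ
  cen := by rw [MonoidHom.ker_comp_of_injective _ _ (Subgroup.subtype_injective _)]; exact hτ.2.1
  range := by
    rw [MonoidHom.range_comp, MonoidHom.range_eq_top.2 hτ.1, ← MonoidHom.range_eq_map,
      Subgroup.range_subtype]

variable (hP : ∀ i, C.HasPair i)
include hP

theorem stem_ker_image {Γ : Type*} [Group Γ] {τ : Γ →* ↥(D.group K)} (hτ : Cfsg.IsStemExtension τ)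
    (h : ∃ ψ : D.SteinbergCover K →* Γ, (stemExt hτ).p.comp ψ = C.theta) :
    ∃ π : (thetaG C (K := K)).ker →* τ.ker, Function.Surjective π := by
  obtain ⟨ψ, hψ⟩ := h
  let e := MulEquiv.ofBijective (C.toSt (K := K)) (toSt_bijective C hP)
  let φ : D.SteinbergGroup K →* Γ := ψ.comp e.symm.toMonoidHom
  have hφ : ∀ x, τ (φ x) = thetaG C x := by
    intro x
    refine Subtype.ext ?_
    show (stemExt hτ).p (ψ (e.symm x)) = C.thetaSt x
    rw [← MonoidHom.comp_apply, hψ, ← C.thetaSt_toSt]
    exact congrArg C.thetaSt (e.apply_symm_apply x)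
  have hs : φ.range = ⊤ := by
    refine CfsgLib.Schur.eq_top_of_map_eq_top hτ ?_
    rw [eq_top_iff]
    intro g _
    obtain ⟨x, hx⟩ := (C.thetaSt_range (K := K)).ge g.2
    exact ⟨φ x, ⟨x, rfl⟩, (hφ x).trans (Subtype.ext hx)⟩
  refine ⟨(φ.comp (thetaG C (K := K)).ker.subtype).codRestrict _ fun x => ?_, fun y => ?_⟩
  · show τ (φ x.1) = 1
    rw [hφ]; exact x.2
  · obtain ⟨x, hx⟩ := hs.ge (Subgroup.mem_top (y : Γ))
    refine ⟨⟨x, ?_⟩, Subtype.ext hx⟩
    rw [MonoidHom.mem_ker, ← hφ, hx]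
    exact y.2

end CfsgLib.Lie.Chev.Univ

namespace CfsgLib.Lie.Chev.Univ

open Cfsg.Lie

universe u

variable {D : ChevalleyDatum} {K : Type u} [Field K] [Finite K] (C : Full D)

/-- the multiplier is the kernel of the map from the Steinberg group -/
theorem hasSchurMultiplier_of_lifts (hP : ∀ i, C.HasPair i)
    (hperf : commutator (D.SteinbergCover K) = ⊤)
    (h : ∀ (Γ : Type u) [Group Γ] [Finite Γ] (X : CExt D K Γ),
      ∃ ψ : D.SteinbergCover K →* Γ, X.p.comp ψ = C.theta)
    {A : Type*} [CommGroup A] (e : (thetaG C (K := K)).ker ≃* A) :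
    Cfsg.HasSchurMultiplier ↥(D.group K) A := by
  haveI := steinbergGroup_finite C (K := K) hP
  refine ⟨⟨D.SteinbergGroup K, inferInstance, inferInstance, thetaG C, thetaG_stem C hP hperf, ⟨e⟩⟩,
    fun Γ _ _ τ hτ => ?_⟩
  obtain ⟨π, hπ⟩ := stem_ker_image C hP hτ (h Γ (stemExt hτ))
  exact ⟨π.comp e.symm.toMonoidHom, hπ.comp e.symm.surjective⟩

/-- trivial multiplier when the torus is faithful -/
theorem hasCyclic_one_of_lifts (hP : ∀ i, C.HasPair i)
    (hker : (C.G.torθ (K := K)).ker = ⊥)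
    (h : ∀ (Γ : Type u) [Group Γ] [Finite Γ] (X : CExt D K Γ),
      ∃ ψ : D.SteinbergCover K →* Γ, X.p.comp ψ = C.theta) :
    Cfsg.HasCyclicSchurMultiplier ↥(D.group K) 1 := by
  refine CfsgLib.Schur.hasCyclic_one_of_ker_eq_bot fun Γ _ _ τ hτ => ?_
  obtain ⟨π, hπ⟩ := stem_ker_image C hP hτ (h Γ (stemExt hτ))
  have hb : (thetaG C (K := K)).ker = ⊥ := by
    rw [thetaG_ker, C.kerSt_eq hP, hker, Subgroup.map_bot]
  haveI : Subsingleton (thetaG C (K := K)).ker := by rw [hb]; infer_instance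
  haveI := hπ.subsingleton
  exact τ.ker.eq_bot_of_subsingleton

end CfsgLib.Lie.Chev.Univ
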