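import Cfsg.Agent.Lib.Lie.Chev.Univ.Frame

/-!
# Universality of the cover from lifts over the Chevalley group
-/

set_option autoImplicit false

namespace CfsgLib.Lie.Chev.Univ

open Cfsg.Lie
open scoped MatrixGroups commutatorElement

theorem hom_unique {H E G : Type*} [Group H] [Group E] [Group G] (hH : commutator H = ⊤) {π : E →* G}
    (hc : π.ker ≤ Subgroup.center E) {f g : H →* E} (h : π.comp f = π.comp g) : f = g := by
  have hmem : ∀ x, f x * (g x)⁻¹ ∈ Subgroup.center E := fun x =>
    hc (by rw [MonoidHom.mem_ker, map_mul, map_inv, ← MonoidHom.comp_apply, h, MonoidHom.comp_apply,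
      mul_inv_cancel])
  letI : CommGroup (Subgroup.center E) :=
    { (inferInstance : Group (Subgroup.center E)) with
      mul_comm := fun a b => Subtype.ext (Subgroup.mem_center_iff.1 b.2 a) }
  let d : H →* Subgroup.center E := MonoidHom.mk' (fun x => ⟨f x * (g x)⁻¹, hmem x⟩) fun x y =>
    Subtype.ext <| by
      show f (x * y) * (g (x * y))⁻¹ = f x * (g x)⁻¹ * (f y * (g y)⁻¹)
      have e := Subgroup.mem_center_iff.1 (hmem y) (g x)⁻¹
      rw [mul_assoc (f x), e, map_mul, map_mul, mul_inv_rev]
      simp only [mul_assoc]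
  refine MonoidHom.ext fun x => ?_
  have hx : x ∈ d.ker := Abelianization.commutator_subset_ker d (hH ▸ Subgroup.mem_top x)
  exact mul_inv_eq_one.1 (congrArg Subtype.val hx)

variable {D : ChevalleyDatum} {K : Type*} [Field K]
variable {G₁ E : Type*} [Group G₁] [Group E]

/-- the fibre product -/
def pb (π : E →* G₁) (σ : D.SteinbergCover K →* G₁) : Subgroup (E × D.SteinbergCover K) :=
  (π.comp (MonoidHom.fst _ _)).eqLocus (σ.comp (MonoidHom.snd _ _))

/-- the projection of the fibre product to the cover -/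
def pbSnd (π : E →* G₁) (σ : D.SteinbergCover K →* G₁) : pb π σ →* D.SteinbergCover K :=
  (MonoidHom.snd _ _).comp (pb π σ).subtype

theorem pbSnd_surjective {π : E →* G₁} (hπ : Function.Surjective π) (σ : D.SteinbergCover K →* G₁) :
    Function.Surjective (pbSnd π σ) := by
  intro x
  obtain ⟨e, he⟩ := hπ (σ x)
  exact ⟨⟨(e, x), he⟩, rfl⟩

/-- the fibre product as a central extension of the Chevalley group -/
noncomputable def pbExt (C : Full D) (hP : ∀ i, C.HasPair i) (hperf : commutator (D.SteinbergCover K) = ⊤)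
    {π : E →* G₁} (hπ : Function.Surjective π) (hc : π.ker ≤ Subgroup.center E)
    (σ : D.SteinbergCover K →* G₁) : CExt D K (pb π σ) where
  p := C.theta.comp (pbSnd π σ)
  range := by
    rw [MonoidHom.range_comp, MonoidHom.range_eq_top.2 (pbSnd_surjective hπ σ),
      ← MonoidHom.range_eq_map, C.theta_range]
  cen := by
    intro y hy
    have hzc : y.1.2 ∈ Subgroup.center (D.SteinbergCover K) := C.theta_ker_central hP hy
    have hmem : ∀ x : pb π σ, ⁅y.1.1, x.1.1⁆ ∈ Subgroup.center E := fun x => hc <| by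
      rw [MonoidHom.mem_ker, map_commutatorElement]
      have e1 : π y.1.1 = σ y.1.2 := y.2
      have e2 : π x.1.1 = σ x.1.2 := x.2
      rw [e1, e2, ← map_commutatorElement,
        commutatorElement_eq_one_iff_commute.2 (Subgroup.mem_center_iff.1 hzc x.1.2).symm, map_one]
    letI : CommGroup (Subgroup.center E) :=
      { (inferInstance : Group (Subgroup.center E)) with
        mul_comm := fun a b => Subtype.ext (Subgroup.mem_center_iff.1 b.2 a) }
    let f : pb π σ →* Subgroup.center E := MonoidHom.mk' (fun x => ⟨⁅y.1.1, x.1.1⁆, hmem x⟩) fun a b =>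
      Subtype.ext <| by
        show ⁅y.1.1, a.1.1 * b.1.1⁆ = ⁅y.1.1, a.1.1⁆ * ⁅y.1.1, b.1.1⁆
        calc _ = ⁅y.1.1, a.1.1⁆ * (a.1.1 * ⁅y.1.1, b.1.1⁆ * a.1.1⁻¹) := by
              simp only [commutatorElement_def]; group
          _ = _ := by rw [Subgroup.mem_center_iff.1 (hmem b) a.1.1, mul_inv_cancel_right]
    have hker : (pbSnd π σ).ker ≤ f.ker := by
      intro x hx
      have h2 : x.1.2 = 1 := hx
      have h1 : x.1.1 ∈ Subgroup.center E := hc <| by
        rw [MonoidHom.mem_ker, show π x.1.1 = σ x.1.2 from x.2, h2, map_one]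
      refine Subtype.ext ?_
      show ⁅y.1.1, x.1.1⁆ = 1
      exact commutatorElement_eq_one_iff_commute.2 (Subgroup.mem_center_iff.1 h1 y.1.1)
    have htop : commutator (pb π σ) ⊔ (pbSnd π σ).ker = ⊤ := by
      rw [← Subgroup.comap_map_eq, commutator_def, Subgroup.map_commutator, ← MonoidHom.range_eq_map,
        MonoidHom.range_eq_top.2 (pbSnd_surjective hπ σ), ← commutator_def, hperf, Subgroup.comap_top]
    rw [Subgroup.mem_center_iff]
    intro x
    have hx : x ∈ f.ker := sup_le (Abelianization.commutator_subset_ker f) hker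
      (htop ▸ Subgroup.mem_top x)
    refine Subtype.ext (Prod.ext ?_ (Subgroup.mem_center_iff.1 hzc x.1.2))
    exact (commutatorElement_eq_one_iff_commute.1 (congrArg Subtype.val hx)).symm

/-- universality from lifts over the Chevalley group -/
theorem universal (C : Full D) (hP : ∀ i, C.HasPair i) (hperf : commutator (D.SteinbergCover K) = ⊤)
    {π : E →* G₁} (hπ : Function.Surjective π) (hc : π.ker ≤ Subgroup.center E)
    (σ : D.SteinbergCover K →* G₁)
    (h : ∃ ψ : D.SteinbergCover K →* pb π σ, (pbExt C hP hperf hπ hc σ).p.comp ψ = C.theta) :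
    ∃! τ : D.SteinbergCover K →* E, π.comp τ = σ := by
  obtain ⟨ψ, hψ⟩ := h
  have hid : (pbSnd π σ).comp ψ = MonoidHom.id _ :=
    hom_unique hperf (C.theta_ker_central hP) (by
      rw [MonoidHom.comp_id, ← MonoidHom.comp_assoc]; exact hψ)
  refine ⟨((MonoidHom.fst _ _).comp (pb π σ).subtype).comp ψ, MonoidHom.ext fun x => ?_, fun τ hτ => ?_⟩
  · show π (ψ x).1.1 = σ x
    rw [show π (ψ x).1.1 = σ (ψ x).1.2 from (ψ x).2, show (ψ x).1.2 = x from DFunLike.congr_fun hid x]
  · refine hom_unique hperf hc (hτ.trans (MonoidHom.ext fun x => ?_))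
    show σ x = π (ψ x).1.1
    rw [show π (ψ x).1.1 = σ (ψ x).1.2 from (ψ x).2, show (ψ x).1.2 = x from DFunLike.congr_fun hid x]

end CfsgLib.Lie.Chev.Univ
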