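import Cfsg.Agent.Lib.Lie.Chev.Univ.TorusLift
import Cfsg.Agent.Lib.Lie.Chev.Univ.Universal
import Mathlib.GroupTheory.Schreier

/-!
# Finite central extensions whose kernel has no element of order the characteristic
-/

set_option autoImplicit false

namespace CfsgLib.Lie.Chev

open Cfsg.Lie
open scoped MatrixGroups commutatorElement

variable {D : ChevalleyDatum} {K : Type*} [Field K] {q : ℕ} [CharP K q]

namespace Full

variable (C : Full D) {P : Type*} [Group P] [Finite P] (X : CExt D K P)

theorem xu_pow (r : Fin D.nroots) (t : K) : ∀ n : ℕ, C.G.xu r t ^ n = C.G.xu r ((n : K) * t) := by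
  intro n
  induction n with
  | zero => simp [C.G.xu_zero]
  | succ n ih => rw [pow_succ, ih, ← C.G.xu_add]; congr 1; push_cast; ring

/-- the kernel has no element of order `q` -/
def NoTorsion (q : ℕ) : Prop := ∀ z : P, X.p z = 1 → z ^ q = 1 → z = 1

variable {C X}

theorem unique_of_pow (hz : NoTorsion X q) {a b : P} (h : X.p a = X.p b) (ha : a ^ q = 1)
    (hb : b ^ q = 1) : a = b := by
  obtain ⟨z, hzc, rfl⟩ := X.eq_mul_central h
  have hc : Commute b z := Subgroup.mem_center_iff.1 hzc b
  rw [hc.mul_pow, hb, one_mul] at ha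
  rw [map_mul, mul_eq_left] at h
  rw [hz z h ha, mul_one]

theorem exists_pow_lift (hz : NoTorsion X q) (r : Fin D.nroots) (t : K) :
    ∃ a : P, X.p a = C.G.xu r t ∧ a ^ q = 1 := by
  classical
  obtain ⟨y, hy⟩ := X.exists_lift (C.G.xu_mem (K := K) r t)
  have hy1 : y ^ q ∈ X.p.ker := by
    rw [MonoidHom.mem_ker, map_pow, hy, C.xu_pow, CharP.cast_eq_zero K q, zero_mul, C.G.xu_zero]
  let f : X.p.ker → X.p.ker := fun z => z ^ q
  have hinj : Function.Injective f := by
    intro a b h
    have h' : (a : P) ^ q = (b : P) ^ q := congrArg Subtype.val h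
    have hc : Commute (a : P) (b : P)⁻¹ :=
      (Subgroup.mem_center_iff.1 (inv_mem (X.cen b.2)) a.1)
    have := hz ((a : P) * (b : P)⁻¹) (mul_mem a.2 (inv_mem b.2))
      (by rw [hc.mul_pow, inv_pow, h', mul_inv_cancel])
    exact Subtype.ext (mul_inv_eq_one.1 this)
  obtain ⟨⟨w, hw⟩, hwe⟩ := Finite.injective_iff_surjective.1 hinj ⟨y ^ q, hy1⟩
  have hwe' : w ^ q = y ^ q := congrArg Subtype.val hwe
  refine ⟨y * w⁻¹, ?_, ?_⟩
  · rw [map_mul, map_inv, MonoidHom.mem_ker.1 hw, inv_one, mul_one, hy]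
  · have hc : Commute y w⁻¹ := Subgroup.mem_center_iff.1 (inv_mem (X.cen hw)) y
    rw [hc.mul_pow, inv_pow, hwe', mul_inv_cancel]

/-- the lift of `x_r(t)` killed by `q` -/
noncomputable def pLift (hz : NoTorsion X q) (r : Fin D.nroots) (t : K) : P :=
  (exists_pow_lift (C := C) hz r t).choose

theorem p_pLift (hz : NoTorsion X q) (r : Fin D.nroots) (t : K) :
    X.p (pLift (C := C) hz r t) = C.G.xu r t := (exists_pow_lift (C := C) hz r t).choose_spec.1

theorem pow_pLift (hz : NoTorsion X q) (r : Fin D.nroots) (t : K) :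
    pLift (C := C) hz r t ^ q = 1 := (exists_pow_lift (C := C) hz r t).choose_spec.2

theorem commute_pLift (hz : NoTorsion X q) (r : Fin D.nroots) (t u : K) :
    Commute (pLift (C := C) hz r t) (pLift (C := C) hz r u) := by
  set a := pLift (C := C) hz r t
  set b := pLift (C := C) hz r u
  have hcm : Commute (X.p a) (X.p b) := by
    rw [p_pLift, p_pLift]
    show _ * _ = _ * _
    rw [← C.G.xu_add, ← C.G.xu_add, add_comm]
  have hp : ∀ n : ℕ, ⁅a, b ^ n⁆ = ⁅a, b⁆ ^ n := by
    intro n
    induction n with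
    | zero => simp
    | succ n ih =>
      rw [pow_succ, X.comm_add_right hcm, ih, pow_succ]
  refine commutatorElement_eq_one_iff_commute.1 (hz _ ?_ ?_)
  · rw [map_commutatorElement, commutatorElement_eq_one_iff_commute.2 hcm]
  · rw [← hp, pow_pLift, commutatorElement_one_right]

/-- the lifts -/
noncomputable def pLifts (hz : NoTorsion X q) : C.Lifts X where
  φ := pLift (C := C) hz
  lift := p_pLift hz
  add r t u := unique_of_pow hz
    (by rw [p_pLift, map_mul, p_pLift, p_pLift, C.G.xu_add]) (pow_pLift hz _ _)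
    (by rw [(commute_pLift hz r t u).mul_pow, pow_pLift, pow_pLift, one_mul])
  equi i r g hg t := unique_of_pow hz
    (by rw [map_mul, map_mul, map_inv, hg, p_pLift, p_pLift, C.G.nU_xu, mul_assoc, mul_inv_cancel,
      mul_one])
    (by rw [conj_pow, pow_pLift, mul_one, mul_inv_cancel]) (pow_pLift hz _ _)

theorem pLifts_step (hz : NoTorsion X q) : (pLifts (C := C) hz).StepOK := by
  intro r s hr hs hrs hI t u
  show pLift (C := C) hz r t * pLift (C := C) hz s u * (pLift (C := C) hz r t)⁻¹ ∈ _
  have hmem : X.p (pLift (C := C) hz r t * pLift (C := C) hz s u * (pLift (C := C) hz r t)⁻¹) ∈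
      C.G.Uge (K := K) (r.val + 1) := by
    rw [map_mul, map_mul, map_inv, p_pLift, p_pLift]
    exact (Subgroup.mem_normalizer_iff.1 (C.Uge_normal (m := r.val + 1)
      (C.G.xu_mem_Uge (Nat.zero_le _) hr t)) _).1 (C.G.xu_mem_Uge hrs hs u)
  obtain ⟨W, hW, hpW⟩ := (pLifts (C := C) hz).exists_mem_Uh hmem
  have hWq : W ^ q = 1 := hI _ (pow_mem hW q) (by
    rw [map_pow, hpW, ← map_pow, conj_pow, pow_pLift, mul_one, mul_inv_cancel, map_one])
  rwa [unique_of_pow hz hpW.symm (by rw [conj_pow, pow_pLift, mul_one, mul_inv_cancel]) hWq]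

theorem exists_hom_of_noTorsion (hz : NoTorsion X q) :
    ∃ ψ : D.SteinbergCover K →* P, X.p.comp ψ = C.theta :=
  C.exists_hom (pLifts hz) (pLifts_step hz)

end Full

namespace Univ

/-- projective representations in the characteristic lift -/
theorem projective_lift [Fintype K] (C : Full D) (hperf : commutator (D.SteinbergCover K) = ⊤)
    (θ : D.SteinbergCover K →* ↥(D.group K)) (hθ : ∀ x, ((θ x : GL D.Idx K)) = C.theta x)
    {L : Type*} [Field L] (hL : ringChar L = ringChar K) {n : ℕ}
    (φ : ↥(D.group K) →* GL (Fin n) L ⧸ Subgroup.center (GL (Fin n) L)) :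
    ∃ ψ : D.SteinbergCover K →* GL (Fin n) L,
      (QuotientGroup.mk' (Subgroup.center (GL (Fin n) L))).comp ψ = φ.comp θ := by
  classical
  obtain ⟨p, hcp⟩ := CharP.exists K
  have hp : p.Prime := (CharP.char_is_prime_or_zero K p).resolve_right (CharP.char_ne_zero_of_finite K p)
  haveI := Fact.mk hp
  have hpL : ringChar L = p := hL.trans (ringChar.eq K p)
  haveI : CharP L p := ringChar.of_eq hpL
  set Z := Subgroup.center (GL (Fin n) L)
  let P : Subgroup (GL (Fin n) L × ↥(D.group K)) :=
    ((QuotientGroup.mk' Z).comp (MonoidHom.fst _ _)).eqLocus (φ.comp (MonoidHom.snd _ _))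
  let π : P →* ↥(D.group K) := (MonoidHom.snd _ _).comp P.subtype
  have hπ : Function.Surjective π := fun g => by
    obtain ⟨a, ha⟩ := QuotientGroup.mk'_surjective Z (φ g)
    exact ⟨⟨(a, g), ha⟩, rfl⟩
  have hkey : ∀ x : P, π x = 1 → x.1.1 ∈ Z := fun x hx => by
    have h : QuotientGroup.mk' Z x.1.1 = φ x.1.2 := x.2
    rw [show x.1.2 = 1 from hx, map_one] at h
    exact (QuotientGroup.eq_one_iff _).1 h
  have hker : π.ker ≤ Subgroup.center P := fun x hx => by
    refine Subgroup.mem_center_iff.2 fun y => Subtype.ext (Prod.ext ?_ ?_)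
    · exact Subgroup.mem_center_iff.1 (hkey x hx) y.1.1
    · show y.1.2 * x.1.2 = x.1.2 * y.1.2
      rw [show x.1.2 = 1 from hx, mul_one, one_mul]
  haveI hfi : (Subgroup.center P).FiniteIndex := by
    haveI : π.ker.FiniteIndex := by
      refine ⟨?_⟩
      rw [Subgroup.index_ker, MonoidHom.range_eq_top.2 hπ]
      exact Nat.card_pos.ne'
    exact Subgroup.finiteIndex_of_le hker
  haveI : Finite (commutatorSet P) := by
    haveI : Finite (P ⧸ Subgroup.center P) := Subgroup.finite_quotient_of_finiteIndex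
    let f : (P ⧸ Subgroup.center P) × (P ⧸ Subgroup.center P) → commutatorSet P := fun x =>
      ⟨⁅x.1.out, x.2.out⁆, _, _, rfl⟩
    refine Finite.of_surjective f fun ⟨c, a, b, hab⟩ => ?_
    refine ⟨(QuotientGroup.mk a, QuotientGroup.mk b), Subtype.ext ?_⟩
    show ⁅(QuotientGroup.mk a : P ⧸ Subgroup.center P).out, (QuotientGroup.mk b : P ⧸ Subgroup.center P).out⁆ = c
    obtain ⟨z, hz⟩ := QuotientGroup.mk_out_eq_mul (Subgroup.center P) a
    obtain ⟨w, hw⟩ := QuotientGroup.mk_out_eq_mul (Subgroup.center P) b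
    rw [hz, hw, ← hab]
    have h1 : ∀ (u : Subgroup.center P) (x : P), (u : P) * x * (u : P)⁻¹ = x := fun u x => by
      rw [← Subgroup.mem_center_iff.1 u.2 x, mul_inv_cancel_right]
    calc ⁅a * (z : P), b * (w : P)⁆
        = a * ((z : P) * (b * ((w : P) * ((z : P)⁻¹ * a⁻¹) * (w : P)⁻¹)) * b⁻¹) := by
          rw [commutatorElement_def]; group
      _ = a * ((z : P) * (b * ((z : P)⁻¹ * a⁻¹)) * b⁻¹) := by rw [h1]
      _ = a * (((z : P) * b * (z : P)⁻¹) * a⁻¹ * b⁻¹) := by group
      _ = ⁅a, b⁆ := by rw [h1, commutatorElement_def]; group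
  let P' := commutator P
  haveI : Finite P' := inferInstanceAs (Finite (commutator P))
  have hsurj : Function.Surjective (π.comp P'.subtype) := by
    have hG : commutator ↥(D.group K) = ⊤ := by
      have hs : Function.Surjective θ := fun g => by
        obtain ⟨x, hx⟩ := (C.theta_range (K := K)).ge g.2
        exact ⟨x, Subtype.ext ((hθ x).trans hx)⟩
      have h := congrArg (Subgroup.map θ) hperf
      rwa [commutator_def, Subgroup.map_commutator, Subgroup.map_top_of_surjective _ hs,
        ← commutator_def] at h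
    rw [← MonoidHom.range_eq_top, MonoidHom.range_comp, Subgroup.range_subtype]
    show (commutator P).map π = ⊤
    rw [commutator_def, Subgroup.map_commutator, Subgroup.map_top_of_surjective _ hπ, ← commutator_def, hG]
  let X : CExt D K P' :=
    { p := (D.group K).subtype.comp (π.comp P'.subtype)
      range := by
        rw [MonoidHom.range_comp, MonoidHom.range_eq_top.2 hsurj, ← MonoidHom.range_eq_map,
          Subgroup.range_subtype]
      cen := fun x hx => by
        have h1 : π x.1 = 1 := Subtype.ext hx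
        exact Subgroup.mem_center_iff.2 fun y =>
          Subtype.ext (Subgroup.mem_center_iff.1 (hker h1) y.1) }
  have hz : Full.NoTorsion X p := by
    intro z hz1 hz2
    have h1 : π z.1 = 1 := Subtype.ext hz1
    have hc := hkey z.1 h1
    refine Subtype.ext (Subtype.ext (Prod.ext ?_ h1))
    have hpow : z.1.1.1 ^ p = 1 :=
      congrArg (fun x : P' => x.1.1.1) hz2
    rw [show Z = Subgroup.center (GL (Fin n) L) from rfl,
      Matrix.GeneralLinearGroup.center_eq_range_scalar] at hc
    obtain ⟨c, hc'⟩ := hc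
    rw [← hc'] at hpow ⊢
    rcases Nat.eq_zero_or_pos n with rfl | hn
    · exact Units.ext (Matrix.ext fun i => i.elim0)
    have hcp' : c ^ p = 1 := by
      have h3 := congrArg (fun g : GL (Fin n) L => (g : Matrix (Fin n) (Fin n) L) ⟨0, hn⟩ ⟨0, hn⟩) hpow
      simp only [← map_pow] at h3
      exact Units.ext (by simpa [Matrix.diagonal_pow] using h3)
    have : c = 1 := Units.ext <| by
      have h4 : ((c : L) - 1) ^ p = 0 := by
        rw [sub_pow_char, one_pow, ← Units.val_pow_eq_pow_val, hcp', Units.val_one, sub_self]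
      exact sub_eq_zero.1 (eq_zero_of_pow_eq_zero h4)
    rw [this, map_one]
    rfl
  obtain ⟨ψ, hψ⟩ := Full.exists_hom_of_noTorsion (C := C) hz
  refine ⟨((MonoidHom.fst _ _).comp P.subtype).comp (P'.subtype.comp ψ), MonoidHom.ext fun x => ?_⟩
  show QuotientGroup.mk' Z (ψ x).1.1.1 = φ (θ x)
  rw [show QuotientGroup.mk' Z (ψ x).1.1.1 = φ (ψ x).1.1.2 from (ψ x).1.2]
  congr 1
  exact Subtype.ext ((DFunLike.congr_fun hψ x).trans (hθ x).symm)

end Univ

end CfsgLib.Lie.Chev
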