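import Cfsg.Agent.Lib.Lie.Chev.Univ.Multiplier
import Cfsg.Agent.Lib.Lie.Chev.Univ.Universal

/-!
# The Steinberg group has trivial multiplier
-/

set_option autoImplicit false

namespace CfsgLib.Lie.Chev.Univ

open Cfsg.Lie

universe u

variable {D : ChevalleyDatum} {K : Type u} [Field K] [Finite K] (C : Full D)

theorem steinbergGroup_multiplier_one (hP : ∀ i, C.HasPair i)
    (hperf : commutator (D.SteinbergCover K) = ⊤)
    (h : ∀ (P : Type u) [Group P] (X : CExt D K P),
      ∃ ψ : D.SteinbergCover K →* P, X.p.comp ψ = C.theta) :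
    Cfsg.HasCyclicSchurMultiplier (D.SteinbergGroup K) 1 := by
  haveI := steinbergGroup_finite C (K := K) hP
  refine CfsgLib.Schur.hasCyclic_one_of_ker_eq_bot fun Γ _ _ τ hτ => ?_
  obtain ⟨ψ, hψ, -⟩ := universal C hP hperf hτ.1 hτ.2.1 C.toSt (h _ _)
  have hs : ψ.range = ⊤ := CfsgLib.Schur.eq_top_of_map_eq_top hτ (by
    rw [MonoidHom.map_range, hψ, MonoidHom.range_eq_top.2 C.toSt_surjective])
  rw [eq_bot_iff]
  intro g hg
  obtain ⟨x, rfl⟩ := hs.ge (Subgroup.mem_top g)
  rw [MonoidHom.mem_ker, ← MonoidHom.comp_apply, hψ] at hg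
  rw [Subgroup.mem_bot, (toSt_bijective C hP).1 (hg.trans (map_one _).symm), map_one]

end CfsgLib.Lie.Chev.Univ
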