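import Cfsg.Agent.Lib.Lie.Chev.Univ.Three

/-!
# Lifts over the field with three elements, type `B₂`

The short root elements are commutators with torus elements, the long ones commutators of short ones.
-/

set_option autoImplicit false
set_option maxRecDepth 100000

namespace CfsgLib.Lie.Chev.Univ.B2Three

open Cfsg.Lie
open scoped MatrixGroups commutatorElement

/-- the short roots -/
def isShort (r : ℕ) : Bool := r == 1 || r == 2 || r == 5 || r == 6

/-- a long root is the sum of two short ones: the first -/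
def pa (k : Fin chevB2.nroots) : Fin chevB2.nroots := (![1, 0, 0, 1, 2, 0, 0, 5] : Fin 8 → Fin 8) k

/-- a long root is the sum of two short ones: the second -/
def pb (k : Fin chevB2.nroots) : Fin chevB2.nroots := (![2, 0, 0, 5, 6, 0, 0, 6] : Fin 8 → Fin 8) k

theorem table : ∀ k : Fin chevB2.nroots,
    (isShort k.val = true → movesChk chevB2 eOdd k.val = true) ∧
    (isShort k.val = false →
      isShort (pa k).val = true ∧ isShort (pb k).val = true ∧
      oneChk chevB2 (pa k).val (pb k).val k.val = true ∧ commChk chevB2 k.val (pa k).val = true ∧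
      cThree (fstCoef chevB2 (pa k).val (pb k).val) = true) := by decide +kernel

theorem table_cert : ∀ k : Fin chevB2.nroots, ∀ s : Fin chevB2.nroots,
    isShort k.val = false → isShort s.val = true →
      certChk chevB2 eEven eOdd k.val s.val = true := by decide +kernel

theorem table_w : ∀ i : Fin chevB2.rank, ∀ k : Fin chevB2.nroots, ∀ k' : Fin chevB2.nroots,
    chevB2.reflectRoot i.val k.val = k'.val →
      isShort k'.val = isShort k.val ∧ (isShort k.val = false →
        (chevB2.reflectRoot i.val (pa k).val = (pa k').val ∧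
          chevB2.reflectRoot i.val (pb k).val = (pb k').val) ∨
        (chevB2.reflectRoot i.val (pa k).val = (pb k').val ∧
          chevB2.reflectRoot i.val (pb k).val = (pa k').val)) := by decide +kernel

variable {K : Type*} [Field K] [Fintype K] (hK : Fintype.card K = 3) (C : Full chevB2)
  {P : Type*} [Group P] (X : CExt chevB2 K P)

include hK in
theorem natCast (x : K) : ∃ n : ℕ, (n : K) = x := natCast_surjective Nat.prime_three hK x

include hK in
theorem hself (r : Fin chevB2.nroots) : C.DZ X r r := C.dz_self_of_natCast X (natCast hK) r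

include hK in
theorem root {r : Fin chevB2.nroots} (h : isShort r.val = true) : C.RootTorus X r :=
  ⟨C.G.moves_of_chk (units_three hK).2 ((table r).1 h), hself hK C X r⟩

include hK in
theorem cert {k s : Fin chevB2.nroots} (hk : isShort k.val = false) (hs : isShort s.val = true) :
    C.G.Cert K k s :=
  C.G.cert_of_chk (units_three hK).1 (units_three hK).2 (table_cert k s hk hs)

include hK in
theorem coef_ne {k : Fin chevB2.nroots} (hk : isShort k.val = false) :
    (fstCoef chevB2 (pa k).val (pb k).val : K) ≠ 0 := by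
  have h := ((table k).2 hk).2.2.2.2
  haveI := Fact.mk Nat.prime_three
  haveI : CharP K 3 := charP_of_card_eq_prime hK
  rw [Ne, CharP.intCast_eq_zero_iff K 3]
  simp only [cThree, Bool.or_eq_true, beq_iff_eq] at h
  omega

/-- the lifts -/
noncomputable def phi (r : Fin chevB2.nroots) (t : K) : P :=
  if h : isShort r.val = true then (root hK C X h).phi t
  else ⁅(root hK C X ((table r).2 (by simpa using h)).1).phi
      (t / (fstCoef chevB2 (pa r).val (pb r).val : K)),
    (root hK C X ((table r).2 (by simpa using h)).2.1).phi 1⁆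

theorem phi_short {r : Fin chevB2.nroots} (h : isShort r.val = true) (t : K) :
    phi hK C X r t = (root hK C X h).phi t := dif_pos h

theorem p_short {r : Fin chevB2.nroots} (h : isShort r.val = true) (t : K) :
    X.p (phi hK C X r t) = C.G.xu r t := by
  rw [phi_short hK C X h, (root hK C X h).p_phi]

theorem phi_long {r : Fin chevB2.nroots} (h : isShort r.val = false) (t : K) :
    phi hK C X r t = ⁅phi hK C X (pa r) (t / (fstCoef chevB2 (pa r).val (pb r).val : K)),
      phi hK C X (pb r) 1⁆ := by
  rw [phi, dif_neg (by simp [h]), phi_short hK C X ((table r).2 h).1,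
    phi_short hK C X ((table r).2 h).2.1]

theorem p_pair {k : Fin chevB2.nroots} (hk : isShort k.val = false) (t u : K) :
    X.p ⁅phi hK C X (pa k) t, phi hK C X (pb k) u⁆ =
      C.G.xu k ((fstCoef chevB2 (pa k).val (pb k).val : K) * (t * u)) := by
  obtain ⟨ha, hb, hone, -, -⟩ := (table k).2 hk
  rw [map_commutatorElement, p_short hK C X ha, p_short hK C X hb, C.comm_of_oneChk hone]

theorem p_phi (r : Fin chevB2.nroots) (t : K) : X.p (phi hK C X r t) = C.G.xu r t := by
  cases h : isShort r.val with
  | true => exact p_short hK C X h t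
  | false =>
    rw [phi_long hK C X h, p_pair hK C X h, mul_one, mul_div_cancel₀ _ (coef_ne hK h)]

include hK in
theorem dz_long {k : Fin chevB2.nroots} (hk : isShort k.val = false) :
    C.DZ X k (pa k) ∧ C.DZ X k (pb k) := by
  obtain ⟨ha, hb, hone, hcom, -⟩ := (table k).2 hk
  have hb' : commChk chevB2 k.val (pb k).val = true := by
    simp only [oneChk, Bool.and_eq_true] at hone
    exact hone.2
  exact ⟨C.dz_of_cert X (cert hK C hk ha) fun t u => C.commute_of_commChk hcom t u,
    C.dz_of_cert X (cert hK C hk hb) fun t u => C.commute_of_commChk hb' t u⟩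

theorem phi_add (r : Fin chevB2.nroots) (t u : K) :
    phi hK C X r (t + u) = phi hK C X r t * phi hK C X r u := by
  cases h : isShort r.val with
  | true => simp only [phi_short hK C X h, (root hK C X h).phi_add]
  | false =>
    obtain ⟨ha, hb, -⟩ := (table r).2 h
    have hadd : ∀ x y : K, phi hK C X (pa r) (x + y) = phi hK C X (pa r) x * phi hK C X (pa r) y :=
      fun x y => by simp only [phi_short hK C X ha, (root hK C X ha).phi_add]
    set c := (fstCoef chevB2 (pa r).val (pb r).val : K)
    have hp : ∀ x : K, X.p ⁅phi hK C X (pa r) (x / c), phi hK C X (pb r) 1⁆ = C.G.xu r x :=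
      fun x => by rw [← phi_long hK C X h, p_phi]
    rw [phi_long hK C X h, phi_long hK C X h, phi_long hK C X h, add_div, hadd]
    have e : ∀ a a' b : P, ⁅a * a', b⁆ = a * ⁅a', b⁆ * a⁻¹ * ⁅a, b⁆ := fun a a' b => by
      simp only [commutatorElement_def]; group
    have hu := ((dz_long hK C X h).1 u (t / c) _ _ (hp u) (p_phi hK C X (pa r) _)).symm.eq
    rw [e, hu, mul_inv_cancel_right]
    exact ((hself hK C X r) u t _ _ (hp u) (hp t)).eq

theorem phi_zero (r : Fin chevB2.nroots) : phi hK C X r 0 = 1 := by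
  have h := phi_add hK C X r 0 0
  rw [add_zero] at h
  exact right_eq_mul.1 h

theorem phi_nat (r : Fin chevB2.nroots) (t : K) (n : ℕ) :
    phi hK C X r t ^ n = phi hK C X r ((n : K) * t) := by
  induction n with
  | zero => simp [phi_zero]
  | succ n ih => rw [pow_succ, ih, ← phi_add]; push_cast; ring_nf

theorem phi_inv (r : Fin chevB2.nroots) (t : K) : (phi hK C X r t)⁻¹ = phi hK C X r (-t) := by
  rw [inv_eq_iff_mul_eq_one, ← phi_add, add_neg_cancel, phi_zero]

theorem pair_mem {k : Fin chevB2.nroots} (hk : isShort k.val = false) {r s : Fin chevB2.nroots}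
    (hrs : (r = pa k ∧ s = pb k) ∨ (r = pb k ∧ s = pa k)) (t u : K) :
    ∃ x : K, ⁅phi hK C X r t, phi hK C X s u⁆ = phi hK C X k x := by
  have key : ∀ t u : K, ∃ x : K, ⁅phi hK C X (pa k) t, phi hK C X (pb k) u⁆ = phi hK C X k x := by
    intro t u
    obtain ⟨n, rfl⟩ := natCast hK u
    set c := (fstCoef chevB2 (pa k).val (pb k).val : K) with hc
    refine ⟨(n : K) * (t * c), ?_⟩
    have h1 : ⁅phi hK C X (pa k) t, phi hK C X (pb k) 1⁆ = phi hK C X k (t * c) := by
      rw [phi_long hK C X hk, ← hc, mul_div_cancel_right₀ _ (coef_ne hK hk)]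
    have hp : X.p ⁅phi hK C X (pa k) t, phi hK C X (pb k) 1⁆ = C.G.xu k (t * c) := by
      rw [h1, p_phi]
    have hcm : Commute ⁅phi hK C X (pa k) t, phi hK C X (pb k) 1⁆ (phi hK C X (pb k) 1) :=
      (dz_long hK C X hk).2 _ 1 _ _ hp (p_phi hK C X _ _)
    rw [show (n : K) = (n : K) * 1 from (mul_one _).symm, ← phi_nat, mul_one, ← phi_nat, ← h1]
    have h2 : phi hK C X (pa k) t * phi hK C X (pb k) 1 * (phi hK C X (pa k) t)⁻¹ =
        ⁅phi hK C X (pa k) t, phi hK C X (pb k) 1⁆ * phi hK C X (pb k) 1 := by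
      rw [commutatorElement_def]; group
    rw [commutatorElement_def, ← conj_pow, h2, hcm.mul_pow, mul_inv_cancel_right]
  rcases hrs with ⟨rfl, rfl⟩ | ⟨rfl, rfl⟩
  · exact key t u
  · obtain ⟨x, hx⟩ := key u t
    exact ⟨-x, by rw [← commutatorElement_inv, hx, phi_inv]⟩

theorem phi_equi (i : Fin chevB2.rank) (r : Fin chevB2.nroots) (q : P) (hq : X.p q = C.G.nU i)
    (t : K) : q * phi hK C X r t * q⁻¹ = phi hK C X (C.G.w i r) ((C.G.eta i r : K) * t) := by
  obtain ⟨hw, hpair⟩ := table_w i r (C.G.w i r) (C.G.w_reflect i r).symm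
  cases h : isShort r.val with
  | true =>
    rw [phi_short hK C X h, phi_short hK C X (hw.trans h)]
    exact (root hK C X h).phi_nU i _ q hq t
  | false =>
    have hs : ∀ (a : Fin chevB2.nroots) (x : K), isShort a.val = true →
        q * phi hK C X a x * q⁻¹ = phi hK C X (C.G.w i a) ((C.G.eta i a : K) * x) := by
      intro a x ha
      rw [phi_short hK C X ha, phi_short hK C X
        (((table_w i a (C.G.w i a) (C.G.w_reflect i a).symm).1).trans ha)]
      exact (root hK C X ha).phi_nU i _ q hq x
    obtain ⟨ha, hb, -⟩ := (table r).2 h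
    have hor : (C.G.w i (pa r) = pa (C.G.w i r) ∧ C.G.w i (pb r) = pb (C.G.w i r)) ∨
        (C.G.w i (pa r) = pb (C.G.w i r) ∧ C.G.w i (pb r) = pa (C.G.w i r)) := by
      rcases hpair h with ⟨e1, e2⟩ | ⟨e1, e2⟩
      · exact Or.inl ⟨Fin.ext ((C.G.w_reflect _ _).trans e1), Fin.ext ((C.G.w_reflect _ _).trans e2)⟩
      · exact Or.inr ⟨Fin.ext ((C.G.w_reflect _ _).trans e1), Fin.ext ((C.G.w_reflect _ _).trans e2)⟩
    have e : q * phi hK C X r t * q⁻¹ = ⁅phi hK C X (C.G.w i (pa r))
        ((C.G.eta i (pa r) : K) * (t / (fstCoef chevB2 (pa r).val (pb r).val : K))),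
        phi hK C X (C.G.w i (pb r)) ((C.G.eta i (pb r) : K) * 1)⁆ := by
      rw [phi_long hK C X h, conjugate_commutatorElement, hs _ _ ha, hs _ _ hb]
    obtain ⟨x, hx⟩ := pair_mem hK C X (hw.trans h) hor
      ((C.G.eta i (pa r) : K) * (t / (fstCoef chevB2 (pa r).val (pb r).val : K)))
      ((C.G.eta i (pb r) : K) * 1)
    rw [hx] at e
    have hp := congrArg X.p e
    rw [p_phi, map_mul, map_mul, map_inv, hq, p_phi, C.G.nU_xu, mul_assoc, mul_inv_cancel,
      mul_one] at hp
    rw [e, C.G.xu_injective' _ hp]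

/-- the lifts -/
noncomputable def lifts : C.Lifts X where
  φ := phi hK C X
  lift := p_phi hK C X
  add := phi_add hK C X
  equi := phi_equi hK C X

theorem torEqui : C.TorEqui X (lifts hK C X) := by
  intro r h b hh hb Q hQ t
  show Q * phi hK C X r t * Q⁻¹ = phi hK C X r (b * t)
  cases hs : isShort r.val with
  | true =>
    rw [phi_short hK C X hs, phi_short hK C X hs]
    exact (root hK C X hs).phi_equi hh hb Q hQ t
  | false =>
    obtain ⟨ha, hb', -⟩ := (table r).2 hs
    obtain ⟨β, hβ⟩ := C.G.H_conj_xu hh (pa r)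
    obtain ⟨β', hβ'⟩ := C.G.H_conj_xu hh (pb r)
    have e : Q * phi hK C X r t * Q⁻¹ = ⁅phi hK C X (pa r)
        ((β : K) * (t / (fstCoef chevB2 (pa r).val (pb r).val : K))),
        phi hK C X (pb r) ((β' : K) * 1)⁆ := by
      rw [phi_long hK C X hs, conjugate_commutatorElement, phi_short hK C X ha, phi_short hK C X ha,
        phi_short hK C X hb', phi_short hK C X hb', (root hK C X ha).phi_equi hh hβ Q hQ,
        (root hK C X hb').phi_equi hh hβ' Q hQ]
    obtain ⟨x, hx⟩ := pair_mem hK C X hs (Or.inl ⟨rfl, rfl⟩)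
      ((β : K) * (t / (fstCoef chevB2 (pa r).val (pb r).val : K))) ((β' : K) * 1)
    rw [hx] at e
    have hp := congrArg X.p e
    rw [p_phi, map_mul, map_mul, map_inv, hQ, p_phi, hb] at hp
    rw [e, C.G.xu_injective' _ hp]

theorem table_pos : ∀ r : Fin chevB2.nroots,
    ((chevB2.coroot.getD r.val #[]).toList.all fun c => decide (0 ≤ c)) = true → 4 ≤ r.val := by
  decide +kernel

theorem table_pairs : ∀ r : Fin chevB2.nroots, ∀ s : Fin chevB2.nroots, 4 ≤ r.val → r.val < s.val →
    (isShort r.val = true ∧ isShort s.val = true ∧ isShort 7 = false ∧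
      (pa ⟨7, by decide⟩).val = r.val ∧ (pb ⟨7, by decide⟩).val = s.val ∧ r.val + 1 ≤ 7) ∨
    isShort r.val ≠ isShort s.val ∨
    (isShort r.val = false ∧ isShort s.val = false ∧
      centreChk chevB2 eEven eOdd cThree true r.val s.val (5, 6) = true) := by
  decide +kernel

theorem step_ok : (lifts hK C X).StepOK := by
  intro r s hr hs hrs _ t u
  refine C.step_of_cert X (lifts hK C X) (torEqui hK C X) ?_ r s hr hs hrs t u
  intro r s hr hs hrs
  have h4 : ∀ r : Fin chevB2.nroots, chevB2.IsPosRoot r.val → 4 ≤ r.val := fun r h =>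
    table_pos r (List.all_eq_true.2 fun c hc => decide_eq_true (h.2 c hc))
  rcases table_pairs r s (h4 r hr) hrs with ⟨-, -, h7, ea, eb, hr7⟩ | hne | ⟨-, -, hc⟩
  · refine Or.inr (Or.inr fun t u => ?_)
    show phi hK C X r t * phi hK C X s u * (phi hK C X r t)⁻¹ ∈ _
    obtain ⟨x, hx⟩ := pair_mem hK C X (k := ⟨7, by decide⟩) h7
      (r := r) (s := s) (Or.inl ⟨Fin.ext ea.symm, Fin.ext eb.symm⟩) t u
    rw [show phi hK C X r t * phi hK C X s u * (phi hK C X r t)⁻¹ =
      ⁅phi hK C X r t, phi hK C X s u⁆ * phi hK C X s u by rw [commutatorElement_def]; group, hx]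
    refine mul_mem ((lifts hK C X).mem_Uh (r := ⟨7, by decide⟩) hr7 ?_ x)
      ((lifts hK C X).mem_Uh hrs hs u)
    refine ⟨by decide, fun c hc => ?_⟩
    have h : (chevB2.coroot.getD 7 #[]).toList.all (fun c => decide (0 ≤ c)) = true := by decide +kernel
    exact of_decide_eq_true (List.all_eq_true.1 h c hc)
  · cases h1 : isShort r.val <;> cases h2 : isShort s.val
    · exact absurd (h1.trans h2.symm) hne
    · exact Or.inl (cert hK C h1 h2)
    · exact Or.inr (Or.inl (cert hK C h2 h1))
    · exact absurd (h1.trans h2.symm) hne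
  · refine Or.inr (Or.inr fun t u => ?_)
    show phi hK C X r t * phi hK C X s u * (phi hK C X r t)⁻¹ ∈ _
    have hd := C.dz_of_centre X (units_three hK).1 (units_three hK).2
      (fun k hk => by
        haveI := Fact.mk Nat.prime_three
        haveI : CharP K 3 := charP_of_card_eq_prime hK
        rw [Ne, CharP.intCast_eq_zero_iff K 3]
        simp only [cThree, Bool.or_eq_true, beq_iff_eq] at hk
        omega)
      (fun _ => hself hK C X) hc r.isLt s.isLt
    rw [(hd t u _ _ (p_phi hK C X r t) (p_phi hK C X s u)).eq, mul_inv_cancel_right]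
    exact (lifts hK C X).mem_Uh hrs hs u

include hK in
theorem exists_hom : ∃ ψ : chevB2.SteinbergCover K →* P, X.p.comp ψ = C.theta :=
  C.exists_hom (lifts hK C X) (step_ok hK C X)

end CfsgLib.Lie.Chev.Univ.B2Three
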