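import Cfsg.Agent.Lib.Lie.Chev.Univ.Frame

/-!
# Lifts of root elements as commutators with lifts of torus elements
-/

set_option autoImplicit false

namespace CfsgLib.Lie.Chev

open Cfsg.Lie
open scoped MatrixGroups commutatorElement

variable {D : ChevalleyDatum} {K : Type*} [Field K]

namespace CExt

variable {P : Type*} [Group P] (X : CExt D K P)

theorem comm_congr {a b a' b' : P} (ha : X.p a = X.p a') (hb : X.p b = X.p b') :
    ⁅a, b⁆ = ⁅a', b'⁆ := by
  obtain ⟨z, hz, rfl⟩ := X.eq_mul_central ha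
  obtain ⟨w, hw, rfl⟩ := X.eq_mul_central hb
  have hz' : ∀ x : P, z * x * z⁻¹ = x := fun x => by
    rw [← Subgroup.mem_center_iff.1 hz x, mul_inv_cancel_right]
  have hw' : ∀ x : P, w * x * w⁻¹ = x := fun x => by
    rw [← Subgroup.mem_center_iff.1 hw x, mul_inv_cancel_right]
  calc ⁅a' * z, b' * w⁆ = a' * (z * (b' * (w * (z⁻¹ * a'⁻¹) * w⁻¹)) * b'⁻¹) := by
        rw [commutatorElement_def]; group
    _ = a' * (z * (b' * (z⁻¹ * a'⁻¹)) * b'⁻¹) := by rw [hw']
    _ = a' * ((z * b' * z⁻¹) * a'⁻¹ * b'⁻¹) := by group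
    _ = ⁅a', b'⁆ := by rw [hz', commutatorElement_def]; group

theorem commute_congr {a b a' b' : P} (ha : X.p a = X.p a') (hb : X.p b = X.p b')
    (h : Commute a' b') : Commute a b := by
  rw [← commutatorElement_eq_one_iff_commute, X.comm_congr ha hb,
    commutatorElement_eq_one_iff_commute]
  exact h

theorem comm_central {a b : P} (h : Commute (X.p a) (X.p b)) : ⁅a, b⁆ ∈ Subgroup.center P :=
  X.cen (by rw [MonoidHom.mem_ker, map_commutatorElement, commutatorElement_eq_one_iff_commute.2 h])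

/-- the lifts of the two elements commute -/
def CommL (g h : GL D.Idx K) : Prop := ∀ a b : P, X.p a = g → X.p b = h → Commute a b

theorem CommL.symm {g h : GL D.Idx K} (hg : X.CommL g h) : X.CommL h g :=
  fun a b ha hb => (hg b a hb ha).symm

theorem commL_one (g : GL D.Idx K) : X.CommL g 1 := fun a b _ hb =>
  X.commute_congr (b' := 1) rfl (by rw [hb, map_one]) (Commute.one_right a)

theorem CommL.mul {g h h' : GL D.Idx K} (hh : h ∈ D.group K) (hh' : h' ∈ D.group K)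
    (h1 : X.CommL g h) (h2 : X.CommL g h') : X.CommL g (h * h') := fun a b ha hb => by
  obtain ⟨c, hc⟩ := X.exists_lift hh
  obtain ⟨d, hd⟩ := X.exists_lift hh'
  exact X.commute_congr (b' := c * d) rfl (by rw [hb, map_mul, hc, hd])
    ((h1 a c ha hc).mul_right (h2 a d ha hd))

theorem CommL.inv {g h : GL D.Idx K} (h1 : X.CommL g h) : X.CommL g h⁻¹ := fun a b ha hb => by
  have := (h1 a b⁻¹ ha (by rw [map_inv, hb, inv_inv])).inv_right
  rwa [inv_inv] at this

/-- the elements of the group whose lifts commute with the lifts of `g` -/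
def CommLs (g : GL D.Idx K) : Subgroup (GL D.Idx K) where
  carrier := {h | h ∈ D.group K ∧ X.CommL g h}
  one_mem' := ⟨one_mem _, X.commL_one g⟩
  mul_mem' := fun h1 h2 => ⟨mul_mem h1.1 h2.1, CommL.mul X h1.1 h2.1 h1.2 h2.2⟩
  inv_mem' := fun h1 => ⟨inv_mem h1.1, CommL.inv X h1.2⟩

theorem commL_conj {g h n : GL D.Idx K} (hn : n ∈ D.group K) (h1 : X.CommL g h) :
    X.CommL (n * g * n⁻¹) (n * h * n⁻¹) := fun a b ha hb => by
  obtain ⟨q, hq⟩ := X.exists_lift hn
  have h2 := h1 (q⁻¹ * a * q) (q⁻¹ * b * q) (by rw [map_mul, map_mul, map_inv, hq, ha]; group)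
    (by rw [map_mul, map_mul, map_inv, hq, hb]; group)
  have h3 : q * (q⁻¹ * a * q * (q⁻¹ * b * q)) * q⁻¹ = q * (q⁻¹ * b * q * (q⁻¹ * a * q)) * q⁻¹ := by
    rw [h2.eq]
  show a * b = b * a
  calc a * b = _ := by group
    _ = _ := h3
    _ = _ := by group

theorem comm_add_right {a b c : P} (hac : Commute (X.p a) (X.p c)) :
    ⁅a, b * c⁆ = ⁅a, b⁆ * ⁅a, c⁆ := by
  have hz := Subgroup.mem_center_iff.1 (X.comm_central hac) b
  calc ⁅a, b * c⁆ = ⁅a, b⁆ * (b * ⁅a, c⁆ * b⁻¹) := by simp only [commutatorElement_def]; group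
    _ = _ := by rw [hz, mul_inv_cancel_right]

end CExt

namespace Good

variable (G : Good D)

/-- `h` moves `x_r` by the scalar `a` -/
def Sc (h : GL D.Idx K) (r : Fin D.nroots) (a : K) : Prop :=
  ∀ t : K, h * G.xu r t * h⁻¹ = G.xu r (a * t)

/-- a torus element centralising `x_r` and moving `x_s` -/
def Cert (K : Type*) [Field K] (r s : Fin D.nroots) : Prop :=
  ∃ h ∈ D.diagonalSubgroup K, G.Sc h r 1 ∧ ∃ a : K, a ≠ 1 ∧ G.Sc h s a

/-- a torus element moving `x_r` -/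
def Moves (K : Type*) [Field K] (r : Fin D.nroots) : Prop :=
  ∃ h ∈ D.diagonalSubgroup K, ∃ a : K, a ≠ 1 ∧ G.Sc h r a

theorem Sc.unique {h : GL D.Idx K} {r : Fin D.nroots} {a b : K} (h1 : G.Sc h r a) (h2 : G.Sc h r b) :
    a = b := by
  have := G.xu_injective' r ((h1 1).symm.trans (h2 1))
  simpa using this

theorem Sc.conj_nU {h : GL D.Idx K} {r : Fin D.nroots} {a : K} (i : Fin D.rank) (h1 : G.Sc h r a) :
    G.Sc (G.nU i * h * (G.nU i)⁻¹) (G.w i r) a := by
  intro t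
  have he : (G.eta i r : K) * (G.eta i r : K) = 1 := by
    rcases G.eta_unit i r with e | e <;> rw [e] <;> simp
  have hx : ∀ v : K, G.nU i * G.xu r v * (G.nU i)⁻¹ = G.xu (G.w i r) ((G.eta i r : K) * v) := by
    intro v
    rw [G.nU_xu, mul_assoc, mul_inv_cancel, mul_one]
  have e := congrArg (fun z => G.nU i * z * (G.nU i)⁻¹) (h1 ((G.eta i r : K) * t))
  simp only [hx, ← mul_assoc] at e
  rw [show (G.eta i r : K) * a * (G.eta i r : K) * t = a * t by linear_combination (a * t) * he] at e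
  have e2 : G.xu (G.w i r) t = G.nU i * G.xu r ((G.eta i r : K) * t) * (G.nU i)⁻¹ := by
    rw [hx, ← mul_assoc, he, one_mul]
  rw [← e, e2]
  group

theorem Cert.w {r s : Fin D.nroots} (i : Fin D.rank) (hc : G.Cert K r s) :
    G.Cert K (G.w i r) (G.w i s) := by
  obtain ⟨h, hh, h1, a, ha, h2⟩ := hc
  exact ⟨_, G.nU_conj_H i hh, Sc.conj_nU G i h1, a, ha, Sc.conj_nU G i h2⟩

theorem Moves.w {r : Fin D.nroots} (i : Fin D.rank) (hc : G.Moves K r) : G.Moves K (G.w i r) := by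
  obtain ⟨h, hh, a, ha, h1⟩ := hc
  exact ⟨_, G.nU_conj_H i hh, a, ha, Sc.conj_nU G i h1⟩

end Good

namespace Full

variable (C : Full D) {P : Type*} [Group P] (X : CExt D K P)

/-- the lifts of `x_r` and `x_s` commute -/
def DZ (r s : Fin D.nroots) : Prop := ∀ t u : K, X.CommL (C.G.xu r t) (C.G.xu s u)

theorem DZ.symm {C : Full D} {X : CExt D K P} {r s : Fin D.nroots} (h : C.DZ X r s) : C.DZ X s r :=
  fun t u => CExt.CommL.symm X (h u t)

theorem DZ.w {C : Full D} {X : CExt D K P} {r s : Fin D.nroots} (i : Fin D.rank) (h : C.DZ X r s) :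
    C.DZ X (C.G.w i r) (C.G.w i s) := by
  intro t u
  have hx : ∀ (s : Fin D.nroots) (v : K),
      C.G.xu (C.G.w i s) v = C.G.nU i * C.G.xu s ((C.G.eta i s : K) * v) * (C.G.nU i)⁻¹ := by
    intro s v
    have he : (C.G.eta i s : K) * (C.G.eta i s : K) = 1 := by
      rcases C.G.eta_unit i s with e | e <;> rw [e] <;> simp
    rw [C.G.nU_xu, mul_assoc, mul_inv_cancel, mul_one, ← mul_assoc, he, one_mul]
  rw [hx, hx]
  exact X.commL_conj (C.G.nU_mem_group i) (h _ _)

theorem dz_of_cert {r s : Fin D.nroots} (hc : C.G.Cert K r s)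
    (hcomm : ∀ t u : K, Commute (C.G.xu r t) (C.G.xu s u)) : C.DZ X r s := by
  intro t u A B hA hB
  obtain ⟨h, hh, h1, a, ha, h2⟩ := hc
  obtain ⟨q, hq⟩ := X.exists_lift (C.G.diagonal_le_group hh)
  set u' := u / (a - 1)
  obtain ⟨B₁, hB₁⟩ := X.exists_lift (C.G.xu_mem (K := K) s u')
  have hA' : X.p (q * A * q⁻¹) = X.p A := by
    rw [map_mul, map_mul, map_inv, hq, hA, h1, one_mul]
  have hq1 : q * ⁅A, B₁⁆ * q⁻¹ = ⁅A, B₁⁆ := by
    rw [Subgroup.mem_center_iff.1 (X.comm_central (by rw [hA, hB₁]; exact hcomm t u')) q,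
      mul_inv_cancel_right]
  rw [conjugate_commutatorElement, X.comm_congr hA' rfl] at hq1
  have hBeq : X.p B = X.p (q * B₁ * q⁻¹ * B₁⁻¹) := by
    have h0 : a - 1 ≠ 0 := sub_ne_zero.2 ha
    simp only [map_mul, map_inv, hq, hB₁, hB]
    rw [h2 u', C.G.xu_inv, ← C.G.xu_add]
    congr 1
    simp only [u']
    field_simp
    ring
  have hcc : ∀ v : K, ∀ b : P, X.p b = C.G.xu s v → Commute (X.p A) (X.p b) := fun v b hb => by
    rw [hA, hb]; exact hcomm t v
  rw [← commutatorElement_eq_one_iff_commute, X.comm_congr rfl hBeq,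
    X.comm_add_right (hcc (-u') _ (by rw [map_inv, hB₁, C.G.xu_inv])), hq1,
    ← X.comm_add_right (hcc (-u') _ (by rw [map_inv, hB₁, C.G.xu_inv])), mul_inv_cancel,
    commutatorElement_one_right]

/-- a root moved by the torus whose lifts commute -/
structure RootTorus (r : Fin D.nroots) : Prop where
  moves : C.G.Moves K r
  self : C.DZ X r r

namespace RootTorus

variable {C X} {r : Fin D.nroots} (T : C.RootTorus X r)

/-- the chosen torus element -/
noncomputable def tor : GL D.Idx K := T.moves.choose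

/-- its scalar -/
noncomputable def sca : K := T.moves.choose_spec.2.choose

theorem tor_mem : T.tor ∈ D.diagonalSubgroup K := T.moves.choose_spec.1

theorem sca_ne : T.sca ≠ 1 := T.moves.choose_spec.2.choose_spec.1

theorem tor_sc : C.G.Sc T.tor r T.sca := T.moves.choose_spec.2.choose_spec.2

/-- the lift of `x_r(t)` -/
noncomputable def phi (t : K) : P :=
  ⁅(X.exists_lift (C.G.diagonal_le_group T.tor_mem)).choose,
    (X.exists_lift (C.G.xu_mem (K := K) r (t / (T.sca - 1)))).choose⁆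

theorem phi_eq (t : K) {A B : P} (hA : X.p A = T.tor)
    (hB : X.p B = C.G.xu r (t / (T.sca - 1))) : T.phi t = ⁅A, B⁆ :=
  X.comm_congr ((X.exists_lift (C.G.diagonal_le_group T.tor_mem)).choose_spec.trans hA.symm)
    ((X.exists_lift (C.G.xu_mem (K := K) r (t / (T.sca - 1)))).choose_spec.trans hB.symm)

theorem p_phi (t : K) : X.p (T.phi t) = C.G.xu r t := by
  obtain ⟨A, hA⟩ := X.exists_lift (C.G.diagonal_le_group T.tor_mem)
  obtain ⟨B, hB⟩ := X.exists_lift (C.G.xu_mem (K := K) r (t / (T.sca - 1)))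
  have h0 : T.sca - 1 ≠ 0 := sub_ne_zero.2 T.sca_ne
  rw [T.phi_eq t hA hB, map_commutatorElement, hA, hB, commutatorElement_def, T.tor_sc,
    C.G.xu_inv, ← C.G.xu_add]
  congr 1
  field_simp
  ring

theorem phi_equi {h : GL D.Idx K} {b : K} (hh : h ∈ D.diagonalSubgroup K)
    (hb : C.G.Sc h r b) (q : P) (hq : X.p q = h) (t : K) :
    q * T.phi t * q⁻¹ = T.phi (b * t) := by
  obtain ⟨A, hA⟩ := X.exists_lift (C.G.diagonal_le_group T.tor_mem)
  obtain ⟨B, hB⟩ := X.exists_lift (C.G.xu_mem (K := K) r (t / (T.sca - 1)))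
  rw [T.phi_eq t hA hB, conjugate_commutatorElement]
  refine (T.phi_eq (b * t) ?_ ?_).symm
  · rw [map_mul, map_mul, map_inv, hq, hA, C.G.diagonal_comm hh T.tor_mem, mul_inv_cancel_right]
  · rw [map_mul, map_mul, map_inv, hq, hB, hb, mul_div_assoc]

theorem comm_tor (v : K) {A B : P} (hA : X.p A = T.tor)
    (hB : X.p B = C.G.xu r v) : ⁅A, B⁆ = T.phi ((T.sca - 1) * v) := by
  refine (T.phi_eq _ hA ?_).symm
  rw [hB, mul_div_cancel_left₀ _ (sub_ne_zero.2 T.sca_ne)]

theorem phi_add (t u : K) : T.phi (t + u) = T.phi t * T.phi u := by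
  obtain ⟨A, hA⟩ := X.exists_lift (C.G.diagonal_le_group T.tor_mem)
  have h0 : T.sca - 1 ≠ 0 := sub_ne_zero.2 T.sca_ne
  set v := t / (T.sca - 1)
  set w := u / (T.sca - 1)
  have hv : ⁅A, T.phi v⁆ = T.phi t := by
    rw [T.comm_tor v hA (T.p_phi v), mul_div_cancel₀ _ h0]
  have hw : ⁅A, T.phi w⁆ = T.phi u := by
    rw [T.comm_tor w hA (T.p_phi w), mul_div_cancel₀ _ h0]
  have hvw : ⁅A, T.phi v * T.phi w⁆ = T.phi (t + u) := by
    rw [T.comm_tor (v + w) hA (by rw [map_mul, T.p_phi, T.p_phi, C.G.xu_add]), mul_add,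
      mul_div_cancel₀ _ h0, mul_div_cancel₀ _ h0]
  rw [← hvw, show ⁅A, T.phi v * T.phi w⁆ =
      ⁅A, T.phi v⁆ * (T.phi v * ⁅A, T.phi w⁆ * (T.phi v)⁻¹) by
    simp only [commutatorElement_def]; group, hv, hw,
    (T.self v u (T.phi v) (T.phi u) (T.p_phi v) (T.p_phi u)).eq, mul_inv_cancel_right]

theorem phi_zero : T.phi 0 = 1 := by
  have h := T.phi_add 0 0
  rw [add_zero] at h
  exact right_eq_mul.1 h

theorem phi_inv (t : K) : (T.phi t)⁻¹ = T.phi (-t) := by
  rw [inv_eq_iff_mul_eq_one, ← T.phi_add, add_neg_cancel, T.phi_zero]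

theorem comm_any {h : GL D.Idx K} {b : K} (hh : h ∈ D.diagonalSubgroup K)
    (hb : C.G.Sc h r b) {Q B : P} (hQ : X.p Q = h) {v : K} (hB : X.p B = C.G.xu r v) :
    ⁅Q, B⁆ = T.phi ((b - 1) * v) := by
  rw [X.comm_congr rfl (hB.trans (T.p_phi v).symm), commutatorElement_def,
    T.phi_equi hh hb Q hQ, T.phi_inv, ← T.phi_add, sub_mul, one_mul, sub_eq_add_neg]

theorem phi_nU (i : Fin D.rank) (T' : C.RootTorus X (C.G.w i r)) (q : P) (hq : X.p q = C.G.nU i)
    (t : K) : q * T.phi t * q⁻¹ = T'.phi ((C.G.eta i r : K) * t) := by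
  obtain ⟨A, hA⟩ := X.exists_lift (C.G.diagonal_le_group T.tor_mem)
  obtain ⟨B, hB⟩ := X.exists_lift (C.G.xu_mem (K := K) r (t / (T.sca - 1)))
  have h0 : T.sca - 1 ≠ 0 := sub_ne_zero.2 T.sca_ne
  have hA' : X.p (q * A * q⁻¹) = C.G.nU i * T.tor * (C.G.nU i)⁻¹ := by
    rw [map_mul, map_mul, map_inv, hq, hA]
  have hB' : X.p (q * B * q⁻¹) =
      C.G.xu (C.G.w i r) ((C.G.eta i r : K) * (t / (T.sca - 1))) := by
    rw [map_mul, map_mul, map_inv, hq, hB, C.G.nU_xu, mul_assoc, mul_inv_cancel, mul_one]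
  rw [T.phi_eq t hA hB, conjugate_commutatorElement,
    T'.comm_any (C.G.nU_conj_H i T.tor_mem) (Good.Sc.conj_nU C.G i T.tor_sc) hA' hB']
  congr 1
  field_simp

end RootTorus

/-- the lifts are equivariant under the torus -/
def TorEqui (L : C.Lifts X) : Prop :=
  ∀ (k : Fin D.nroots) (h : GL D.Idx K) (b : K), h ∈ D.diagonalSubgroup K → C.G.Sc h k b →
    ∀ Q : P, X.p Q = h → ∀ x : K, Q * L.φ k x * Q⁻¹ = L.φ k (b * x)

theorem comm_of_torEqui {L : C.Lifts X} (he : C.TorEqui X L) {r : Fin D.nroots} {h : GL D.Idx K}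
    {b : K} (hh : h ∈ D.diagonalSubgroup K) (hb : C.G.Sc h r b) {Q : P} (hQ : X.p Q = h) (v : K) :
    ⁅Q, L.φ r v⁆ = L.φ r ((b - 1) * v) := by
  rw [commutatorElement_def, he r h b hh hb Q hQ, L.φ_inv, ← L.add, sub_mul, one_mul, sub_eq_add_neg]

theorem torEqui_Uh {L : C.Lifts X} (he : C.TorEqui X L) {h : GL D.Idx K} {Q : P}
    (hh : h ∈ D.diagonalSubgroup K) (hQ : X.p Q = h) (m : ℕ) {W : P} (hW : W ∈ L.Uh m) :
    Q * W * Q⁻¹ ∈ L.Uh m := by
  have hle : L.Uh m ≤ (L.Uh m).comap (MulAut.conj Q).toMonoidHom := by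
    conv_lhs => rw [Lifts.Uh]
    rw [Subgroup.closure_le]
    rintro _ ⟨k, x, hk1, hk2, rfl⟩
    obtain ⟨b, hb⟩ := C.G.H_conj_xu hh k
    show Q * L.φ k x * Q⁻¹ ∈ L.Uh m
    rw [he k h b hh hb Q hQ]
    exact L.mem_Uh hk1 hk2 _
  exact hle hW

/-- the filtration step from certificates in either direction -/
theorem step_of_cert (L : C.Lifts X) (he : C.TorEqui X L)
    (hc : ∀ r s : Fin D.nroots, D.IsPosRoot r.val → D.IsPosRoot s.val → r.val < s.val →
      C.G.Cert K r s ∨ C.G.Cert K s r ∨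
        ∀ t u, L.φ r t * L.φ s u * (L.φ r t)⁻¹ ∈ L.Uh (r.val + 1)) :
    ∀ r s : Fin D.nroots, D.IsPosRoot r.val → D.IsPosRoot s.val → r.val < s.val →
      ∀ t u, L.φ r t * L.φ s u * (L.φ r t)⁻¹ ∈ L.Uh (r.val + 1) := by
  suffices key : ∀ (n : ℕ) (r s : Fin D.nroots), D.nroots - s.val = n → D.IsPosRoot r.val →
      D.IsPosRoot s.val → r.val < s.val →
      ∀ t u, L.φ r t * L.φ s u * (L.φ r t)⁻¹ ∈ L.Uh (r.val + 1) from
    fun r s => key _ r s rfl
  intro n
  induction n using Nat.strong_induction_on with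
  | _ n ih =>
  intro r s hn hr hs hrs t u
  rcases hc r s hr hs hrs with hc | hc | hd
  · obtain ⟨h, hh, h1, a, ha, h2⟩ := hc
    obtain ⟨Q, hQ⟩ := X.exists_lift (C.G.diagonal_le_group hh)
    have h0 : a - 1 ≠ 0 := sub_ne_zero.2 ha
    set v := u / (a - 1)
    have hv : ⁅Q, L.φ s v⁆ = L.φ s u := by
      rw [C.comm_of_torEqui X he hh h2 hQ, mul_div_cancel₀ _ h0]
    have hY : X.p (L.φ r t * Q * (L.φ r t)⁻¹) = X.p Q := by
      have hf : Q * L.φ r t * Q⁻¹ = L.φ r t := by rw [he r h 1 hh h1 Q hQ, one_mul]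
      have hf' : Q * L.φ r t = L.φ r t * Q := by
        conv_rhs => rw [← hf]
        group
      rw [← hf', mul_inv_cancel_right]
    rw [← hv, conjugate_commutatorElement]
    have hmem : X.p (L.φ r t * L.φ s v * (L.φ r t)⁻¹) ∈ C.G.Uge (K := K) (r.val + 1) := by
      rw [map_mul, map_mul, map_inv, L.lift, L.lift]
      exact (Subgroup.mem_normalizer_iff.1 (C.Uge_normal (m := r.val + 1)
        (C.G.xu_mem_Uge (Nat.zero_le _) hr t)) _).1 (C.G.xu_mem_Uge hrs hs v)
    obtain ⟨W, hW, hpW⟩ := L.exists_mem_Uh hmem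
    rw [X.comm_congr hY hpW.symm, commutatorElement_def]
    exact mul_mem (C.torEqui_Uh X he hh hQ _ hW) (inv_mem hW)
  · obtain ⟨h, hh, h1, a, ha, h2⟩ := hc
    obtain ⟨Q, hQ⟩ := X.exists_lift (C.G.diagonal_le_group hh)
    have h0 : a - 1 ≠ 0 := sub_ne_zero.2 ha
    have key2 : ∀ t u : K, (L.φ r t)⁻¹ * L.φ s u * L.φ r t ∈ L.Uh (r.val + 1) := by
      intro t u
      set v := t / (a - 1)
      have hv : ⁅Q, L.φ r v⁆ = L.φ r t := by
        rw [C.comm_of_torEqui X he hh h2 hQ, mul_div_cancel₀ _ h0]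
      have hf : L.φ s u * Q * (L.φ s u)⁻¹ = Q := by
        have hf : Q * L.φ s u * Q⁻¹ = L.φ s u := by rw [he s h 1 hh h1 Q hQ, one_mul]
        have hf' : Q * L.φ s u = L.φ s u * Q := by
          conv_rhs => rw [← hf]
          group
        rw [← hf', mul_inv_cancel_right]
      have hmem : (C.G.xu r v)⁻¹ * (C.G.xu s u * C.G.xu r v * (C.G.xu s u)⁻¹) ∈
          C.G.Uge (K := K) (s.val + 1) := by
        have hh' := C.comm_mem hs hr (-u) v
        rw [C.G.xu_inv s (-u), neg_neg, ← C.G.xu_inv s u, max_eq_left hrs.le] at hh'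
        exact hh'
      obtain ⟨B, hB, hpB⟩ := L.exists_mem_Uh hmem
      have hp : X.p (L.φ s u * L.φ r v * (L.φ s u)⁻¹) = X.p (L.φ r v * B) := by
        rw [map_mul, map_mul, map_inv, map_mul, L.lift, L.lift, hpB, mul_inv_cancel_left]
      have he2 : L.φ s u * L.φ r t * (L.φ s u)⁻¹ =
          L.φ r t * (L.φ r v * ⁅Q, B⁆ * (L.φ r v)⁻¹) := by
        conv_lhs => rw [← hv]
        rw [conjugate_commutatorElement, hf, X.comm_congr rfl hp, ← hv]
        simp only [commutatorElement_def]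
        group
      have hQB : ⁅Q, B⁆ ∈ L.Uh (s.val + 1) := by
        rw [commutatorElement_def]
        exact mul_mem (C.torEqui_Uh X he hh hQ _ hB) (inv_mem hB)
      have hZ : L.φ r v * ⁅Q, B⁆ * (L.φ r v)⁻¹ ∈ L.Uh (r.val + 1) := by
        have hle : L.Uh (s.val + 1) ≤ (L.Uh (r.val + 1)).comap (MulAut.conj (L.φ r v)).toMonoidHom := by
          conv_lhs => rw [Lifts.Uh]
          rw [Subgroup.closure_le]
          rintro _ ⟨k, x, hk1, hk2, rfl⟩
          exact ih (D.nroots - k.val) (by have := k.isLt; omega) r k rfl hr hk2 (by omega) v x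
        exact hle hQB
      have e : (L.φ r t)⁻¹ * L.φ s u * L.φ r t = L.φ r v * ⁅Q, B⁆ * (L.φ r v)⁻¹ * L.φ s u := by
        calc _ = (L.φ r t)⁻¹ * (L.φ s u * L.φ r t * (L.φ s u)⁻¹) * L.φ s u := by group
          _ = _ := by rw [he2]; group
      rw [e]
      exact mul_mem hZ (L.mem_Uh hrs hs u)
    have := key2 (-t) u
    rwa [← L.φ_inv, inv_inv] at this
  · exact hd t u

/-- the data from which the lifts are built -/
structure TorusData : Prop where
  moves : ∀ r, C.G.Moves K r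
  self : ∀ r, C.DZ X r r
  cert : ∀ r s : Fin D.nroots, s ≠ r → s ≠ C.G.negr r →
    C.G.Cert K r s ∨ C.G.Cert K s r ∨ C.DZ X r s

namespace TorusData

variable {C X} (T : C.TorusData X)

include T in
theorem root (r : Fin D.nroots) : C.RootTorus X r := ⟨T.moves r, T.self r⟩

/-- the lifts -/
noncomputable def lifts : C.Lifts X where
  φ r := (T.root r).phi
  lift r := (T.root r).p_phi
  add r := (T.root r).phi_add
  equi i r := (T.root r).phi_nU i (T.root _)

theorem step_ok : T.lifts.StepOK := by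
  intro r s hr hs hrs _ t u
  exact C.step_of_cert X T.lifts
    (fun k h b hh hb Q hQ x => (T.root k).phi_equi hh hb Q hQ x)
    (fun a b ha hb hab => by
      rcases T.cert a b (fun e => by rw [e] at hab; exact lt_irrefl _ hab) (C.pos_ne_negr ha hb) with
        h | h | h
      · exact Or.inl h
      · exact Or.inr (Or.inl h)
      · refine Or.inr (Or.inr fun t u => ?_)
        show (T.root a).phi t * (T.root b).phi u * ((T.root a).phi t)⁻¹ ∈ _
        rw [(h t u _ _ ((T.root a).p_phi t) ((T.root b).p_phi u)).eq, mul_inv_cancel_right]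
        exact T.lifts.mem_Uh hab hb u) r s hr hs hrs t u

include T in
theorem exists_hom : ∃ ψ : D.SteinbergCover K →* P, X.p.comp ψ = C.theta :=
  C.exists_hom T.lifts T.step_ok

end TorusData

end Full

end CfsgLib.Lie.Chev
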