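import Cfsg.Agent.Lib.Lie.Chev.Univ.Certs
import Cfsg.Agent.Lib.Lie.Chev.CommTables

/-!
# Lifts over the field with two elements for simply laced types

The lift of a root element is the common value of the commutators of lifts of the pairs of root
elements with that sum; a chain of associativity moves shows that the value does not depend on the pair.
-/

set_option autoImplicit false

namespace CfsgLib.Lie.Chev.Univ.Two

open Cfsg.Lie
open scoped MatrixGroups commutatorElement

variable {D : ChevalleyDatum} {K : Type*} [Field K]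

/-- the commutator of `a`, `b` is the root element of `k` -/
noncomputable def single (D : ChevalleyDatum) (F : Fast) (a b k : ℕ) : Bool :=
  decide (a < D.nroots ∧ b < D.nroots ∧ k < D.nroots ∧ b ≠ a ∧ b ≠ D.neg a) &&
  match commTermsF D F a b with
  | [(k', c, m, n)] => k' == k && (c == 1 || c == -1) && m == 1 && n == 1
  | _ => false

/-- the root elements of `a`, `b` commute -/
noncomputable def apart (D : ChevalleyDatum) (F : Fast) (a b : ℕ) : Bool :=
  decide (a < D.nroots ∧ b < D.nroots ∧ b ≠ a ∧ b ≠ D.neg a) && (commTermsF D F a b).isEmpty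

/-- for each root off `p_i`: a pair with this sum commuting with `p_i`, or a sum -/
noncomputable def baseChk (D : ChevalleyDatum) (F : Fast) (i : ℕ) (T : List (ℕ × ℕ × ℕ)) : Bool :=
  (List.range D.nroots).all fun s => s == D.simple i || s == D.neg (D.simple i) ||
    match T.find? (fun e => e.1 == s) with
    | some e => single D F e.2.1 e.2.2 s && apart D F (D.simple i) e.2.1 && apart D F (D.simple i) e.2.2
    | none =>
      match commTermsF D F (D.simple i) s with
      | [(k, _, _, _)] => single D F (D.simple i) s k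
      | _ => false

/-- one associativity move: `a = c + d`, `e = d + b` -/
noncomputable def moveChk (D : ChevalleyDatum) (F : Fast) (k : ℕ) (a b c e d : ℕ) : Bool :=
  single D F c d a && single D F d b e && apart D F c b && apart D F d k && apart D F a k && apart D F d e

/-- the pairs with sum `k`, each linked to an earlier one -/
noncomputable def linkChk (D : ChevalleyDatum) (F : Fast) (k : ℕ) : List (ℕ × ℕ) → List (ℕ × ℕ × ℕ × ℕ × ℕ) → Bool
  | _, [] => true
  | seen, (a, b, c, e, d) :: T =>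
    single D F a b k &&
      (seen.isEmpty || (seen.contains (b, a) && apart D F a k) ||
        (seen.contains (c, e) && moveChk D F k a b c e d)) &&
      linkChk D F k ((a, b) :: seen) T

/-- a number depending additively on the root -/
def key (D : ChevalleyDatum) (s : ℕ) : ℤ :=
  ((List.range D.rank).map fun i => D.cartan i s * 16 ^ i).sum

/-- the pairs in the table are all the pairs with sum `k` -/
noncomputable def fullChk (T : List (ℕ × ℕ × ℕ × ℕ × ℕ)) (keys : List ℤ) (kk : ℤ) :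
    Bool :=
  keys.zipIdx.all fun x =>
    (T.any fun e => Nat.beq e.1 x.2) || allList keys fun y => !(intBeq (y + x.1) kk)

theorem intBeq_self (a : ℤ) : intBeq a a = true := by cases a <;> simp [intBeq]

theorem key_add (G : Good D) {a b k : Fin D.nroots} (h : G.rho k = G.rho a + G.rho b) :
    key D k.val = key D a.val + key D b.val := by
  have hc : ∀ i : Fin D.rank, D.cartan i.val k.val = D.cartan i.val a.val + D.cartan i.val b.val := by
    intro i
    show cart D i k = cart D i a + cart D i b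
    rw [G.cart_eq, G.cart_eq i a, G.cart_eq i b, h, ← Finset.sum_add_distrib]
    exact Finset.sum_congr rfl fun j _ => by rw [Pi.add_apply, add_mul]
  simp only [key, ← List.sum_toFinset _ List.nodup_range, List.toFinset_range,
    ← Finset.sum_add_distrib]
  exact Finset.sum_congr rfl fun i hi => by rw [hc ⟨i, Finset.mem_range.1 hi⟩, add_mul]

variable {F : Fast} [hF : Fact (RowsOK D F)]

variable (C : Full D) {P : Type*} [Group P] (X : CExt D K P) (hK : ∀ x : K, x = 0 ∨ x = 1)

include hK in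
theorem cast_one {c : ℤ} (hc : c = 1 ∨ c = -1) : (c : K) = 1 := by
  rcases hK (c : K) with h | h
  · rcases hc with rfl | rfl <;> simp at h
  · exact h

include hK in
theorem neg_one : (-1 : K) = 1 := by
  simpa using cast_one (K := K) hK (c := -1) (Or.inr rfl)

/-- `k = a + b` -/
def IsPair (K : Type*) [Field K] (a b k : Fin D.nroots) : Prop :=
  C.G.rho k = C.G.rho a + C.G.rho b ∧
    ⁅C.G.xu a (1 : K), C.G.xu b (1 : K)⁆ = C.G.xu k 1

include hK in
theorem xu_inv_one (r : Fin D.nroots) : (C.G.xu r (1 : K))⁻¹ = C.G.xu r 1 := by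
  rw [C.G.xu_inv, neg_one hK]

include hK in
theorem nU_xu_one (i : Fin D.rank) (r : Fin D.nroots) :
    C.G.nU i * C.G.xu r (1 : K) * (C.G.nU i)⁻¹ = C.G.xu (C.G.w i r) 1 := by
  rw [C.G.nU_xu, mul_assoc, mul_inv_cancel, mul_one, cast_one hK (C.G.eta_unit i r), one_mul]

theorem rho_w_add {i : Fin D.rank} {a b k : Fin D.nroots} (h : C.G.rho k = C.G.rho a + C.G.rho b) :
    C.G.rho (C.G.w i k) = C.G.rho (C.G.w i a) + C.G.rho (C.G.w i b) := by
  have hc : cart D i k = cart D i a + cart D i b := by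
    rw [C.G.cart_eq, C.G.cart_eq i a, C.G.cart_eq i b, h, ← Finset.sum_add_distrib]
    exact Finset.sum_congr rfl fun j _ => by rw [Pi.add_apply, add_mul]
  rw [C.G.rho_w, C.G.rho_w, C.G.rho_w, hc, h, add_smul]
  abel

include hK in
theorem IsPair.w {a b k : Fin D.nroots} (i : Fin D.rank) (h : IsPair C K a b k) :
    IsPair C K (C.G.w i a) (C.G.w i b) (C.G.w i k) := by
  refine ⟨rho_w_add C h.1, ?_⟩
  rw [← nU_xu_one C hK i a, ← nU_xu_one C hK i b, ← nU_xu_one C hK i k, ← conjugate_commutatorElement,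
    h.2]

include hK in
theorem isPair_of_single {a b k : ℕ} (h : single D F a b k = true) (ha : a < D.nroots) (hb : b < D.nroots)
    (hk : k < D.nroots) : IsPair C K ⟨a, ha⟩ ⟨b, hb⟩ ⟨k, hk⟩ := by
  simp only [single, Bool.and_eq_true, decide_eq_true_eq] at h
  obtain ⟨⟨-, -, -, hne, hng⟩, hm⟩ := h
  rw [commTermsF_eq hF.out C.keys ha hb] at hm
  split at hm
  case h_2 => exact absurd hm (by simp)
  case h_1 k' c m n hl =>
    simp only [Bool.and_eq_true, Bool.or_eq_true, beq_iff_eq] at hm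
    obtain ⟨⟨⟨hk', hc⟩, hm'⟩, hn'⟩ := hm
    subst hk' hm' hn'
    have h1 : (⟨b, hb⟩ : Fin D.nroots) ≠ ⟨a, ha⟩ := fun e => hne (congrArg Fin.val e)
    have h2 : (⟨b, hb⟩ : Fin D.nroots) ≠ C.G.negr ⟨a, ha⟩ := fun e =>
      hng ((congrArg Fin.val e).trans (C.G.neg_val ⟨a, ha⟩).symm)
    refine ⟨?_, ?_⟩
    · obtain ⟨_, _, _, e⟩ := C.commTerms_weight (r := ⟨a, ha⟩) (s := ⟨b, hb⟩)
        (show (k', c, 1, 1) ∈ D.commTerms a b by rw [hl]; simp)
      simpa using e
    · have e := congrArg C.theta (C.comm_xc (K := K) ⟨a, ha⟩ ⟨b, hb⟩ h1 h2 1 1)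
      simp only [hl, List.map_cons, List.map_nil, List.prod_cons, List.prod_nil, mul_one, pow_one,
        cast_one hK hc, one_mul, neg_one hK, map_mul, map_inv, C.theta_xc] at e
      rw [show D.scGen K k' (1 : K) = C.G.xc ⟨k', hk⟩ 1 from rfl, C.theta_xc, xu_inv_one C hK] at e
      have e3 : C.G.xu ⟨b, hb⟩ (1 : K) * C.G.xu ⟨k', hk⟩ 1 = C.G.xu ⟨a, ha⟩ 1 * C.G.xu ⟨b, hb⟩ 1 *
          C.G.xu ⟨a, ha⟩ 1 := e.symm
      have e4 : ⁅C.G.xu ⟨a, ha⟩ (1 : K), C.G.xu ⟨b, hb⟩ (1 : K)⁆⁻¹ = C.G.xu ⟨k', hk⟩ 1 := by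
        rw [commutatorElement_inv, commutatorElement_def, xu_inv_one C hK, xu_inv_one C hK,
          mul_assoc, mul_assoc]
        rw [mul_assoc] at e3
        rw [← e3, ← mul_assoc]
        nth_rw 1 [← xu_inv_one C hK ⟨b, hb⟩]
        rw [inv_mul_cancel, one_mul]
      rw [← inv_inv ⁅C.G.xu ⟨a, ha⟩ (1 : K), C.G.xu ⟨b, hb⟩ (1 : K)⁆, e4, xu_inv_one C hK]

theorem commute_of_apart {a b : ℕ} (h : apart D F a b = true) (ha : a < D.nroots) (hb : b < D.nroots)
    (t u : K) : Commute (C.G.xu ⟨a, ha⟩ t) (C.G.xu ⟨b, hb⟩ u) := by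
  simp only [apart, Bool.and_eq_true, decide_eq_true_eq, List.isEmpty_iff,
    commTermsF_eq hF.out C.keys ha hb] at h
  obtain ⟨⟨-, -, hne, hng⟩, he⟩ := h
  exact C.commute_of_empty (fun e => hne (congrArg Fin.val e))
    (fun e => hng ((congrArg Fin.val e).trans (C.G.neg_val ⟨a, ha⟩).symm)) he t u

include hK in
theorem dz_of_one {r s : Fin D.nroots} (h : X.CommL (C.G.xu r 1) (C.G.xu s 1)) : C.DZ X r s := by
  intro t u
  rcases hK t with rfl | rfl
  · rw [C.G.xu_zero]; exact CExt.CommL.symm X (X.commL_one _)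
  rcases hK u with rfl | rfl
  · rw [C.G.xu_zero]; exact X.commL_one _
  exact h

theorem dz_commute {r s : Fin D.nroots} (h : C.DZ X r s) :
    Commute (C.G.xu r (1 : K)) (C.G.xu s 1) := by
  obtain ⟨A, hA⟩ := X.exists_lift (C.G.xu_mem (K := K) r 1)
  obtain ⟨B, hB⟩ := X.exists_lift (C.G.xu_mem (K := K) s 1)
  have := congrArg X.p (h 1 1 A B hA hB).eq
  rwa [map_mul, map_mul, hA, hB] at this

theorem commL_commutator_of_commute {g c d : GL D.Idx K} (hc : c ∈ D.group K)
    (hd : d ∈ D.group K) (h1 : Commute g c) (h2 : Commute g d) : X.CommL g ⁅c, d⁆ := by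
  intro A B hA hB
  obtain ⟨C', hC⟩ := X.exists_lift hc
  obtain ⟨E', hE⟩ := X.exists_lift hd
  refine X.commute_congr (b' := ⁅C', E'⁆) rfl (by rw [hB, map_commutatorElement, hC, hE]) ?_
  have e : ∀ {x : GL D.Idx K} (Y : P), X.p Y = x → Commute g x → X.p (A * Y * A⁻¹) = X.p Y := by
    intro x Y hY hx
    rw [map_mul, map_mul, map_inv, hA, hY, hx.eq, mul_inv_cancel_right]
  exact mul_inv_eq_iff_eq_mul.1
    (by rw [conjugate_commutatorElement, X.comm_congr (e C' hC h1) (e E' hE h2)])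

/-- the checks of one fundamental root -/
def Base (D : ChevalleyDatum) (F : Fast) (T : List (List (ℕ × ℕ × ℕ))) : Prop :=
  ∀ i < D.rank, baseChk D F i (T.getD i []) = true

include hK in
theorem rel_all {T : List (List (ℕ × ℕ × ℕ))} (hT : Base D F T) :
    ∀ r s : Fin D.nroots, s ≠ r → s ≠ C.G.negr r →
      C.DZ X r s ∨ ∃ k, IsPair C K r s k := by
  refine C.G.orbit _ (fun i _ s h1 h2 => ?_) fun i r hr s h1 h2 => ?_
  · have h := hT i.val i.isLt
    rw [baseChk, List.all_eq_true] at h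
    have hs := h s.val (List.mem_range.2 s.isLt)
    simp only [Bool.or_eq_true, beq_iff_eq] at hs
    rcases hs with (e | e) | hs
    · exact absurd (Fin.ext (e.trans (C.G.simp_val i).symm)) h1
    · refine absurd (Fin.ext ?_) h2
      rw [← C.G.neg_val, C.G.simp_val]; exact e
    rw [← C.G.simp_val i] at hs
    split at hs
    case h_1 e he =>
      simp only [Bool.and_eq_true] at hs
      obtain ⟨⟨hs1, hs2⟩, hs3⟩ := hs
      have hb := hs1
      simp only [single, Bool.and_eq_true, decide_eq_true_eq] at hb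
      obtain ⟨⟨hc, hd, -⟩, -⟩ := hb
      refine Or.inl (dz_of_one C X hK ?_)
      rw [show C.G.xu s (1 : K) = C.G.xu ⟨s.val, s.isLt⟩ 1 from rfl,
        ← (isPair_of_single C hK hs1 hc hd s.isLt).2]
      exact commL_commutator_of_commute X (C.G.xu_mem _ _) (C.G.xu_mem _ _)
        (commute_of_apart C hs2 (C.G.simp' i).isLt hc 1 1)
        (commute_of_apart C hs3 (C.G.simp' i).isLt hd 1 1)
    case h_2 =>
      split at hs
      case h_2 => exact absurd hs (by simp)
      case h_1 k c m n hl =>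
        have hb := hs
        simp only [single, Bool.and_eq_true, decide_eq_true_eq] at hb
        exact Or.inr ⟨⟨k, hb.1.2.2.1⟩, isPair_of_single C hK hs _ s.isLt hb.1.2.2.1⟩
  · have e1 : C.G.w i s ≠ r := fun e => h1 (by rw [← C.G.w_w i s, e])
    have e2 : C.G.w i s ≠ C.G.negr r := fun e => h2 (by rw [← C.G.w_w i s, e, C.G.w_negr])
    have e3 : C.G.w i (C.G.w i s) = s := C.G.w_w i s
    rcases hr (C.G.w i s) e1 e2 with h | ⟨k, h⟩
    · exact Or.inl (e3 ▸ h.w i)
    · exact Or.inr ⟨_, e3 ▸ IsPair.w C hK i h⟩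

include hK in
theorem dz_all {T : List (List (ℕ × ℕ × ℕ))} (hT : Base D F T) {r s : Fin D.nroots}
    (hn : s ≠ C.G.negr r) (hcomm : Commute (C.G.xu r (1 : K)) (C.G.xu s 1)) : C.DZ X r s := by
  rcases eq_or_ne s r with rfl | hne
  · exact C.dz_self_of_natCast X (fun x => by
      rcases hK x with rfl | rfl
      · exact ⟨0, Nat.cast_zero⟩
      · exact ⟨1, Nat.cast_one⟩) _
  rcases rel_all C X hK hT r s hne hn with h | ⟨k, -, h⟩
  · exact h
  · rw [commutatorElement_eq_one_iff_commute.2 hcomm, eq_comm, C.G.xu_eq_one_iff] at h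
    exact absurd h one_ne_zero

/-- the commutator of two lifts -/
noncomputable def f (a b : Fin D.nroots) : P :=
  ⁅(X.exists_lift (C.G.xu_mem (K := K) a 1)).choose, (X.exists_lift (C.G.xu_mem (K := K) b 1)).choose⁆

theorem f_eq {a b : Fin D.nroots} {A B : P} (hA : X.p A = C.G.xu a 1) (hB : X.p B = C.G.xu b 1) :
    f C X a b = ⁅A, B⁆ :=
  X.comm_congr ((X.exists_lift (C.G.xu_mem (K := K) a 1)).choose_spec.trans hA.symm)
    ((X.exists_lift (C.G.xu_mem (K := K) b 1)).choose_spec.trans hB.symm)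

theorem p_f {a b k : Fin D.nroots} (h : IsPair C K a b k) : X.p (f C X a b) = C.G.xu k 1 := by
  rw [f, map_commutatorElement, (X.exists_lift (C.G.xu_mem (K := K) a 1)).choose_spec,
    (X.exists_lift (C.G.xu_mem (K := K) b 1)).choose_spec, h.2]

include hK in
theorem f_w (i : Fin D.rank) {a b : Fin D.nroots} {q : P} (hq : X.p q = C.G.nU i) :
    q * f C X a b * q⁻¹ = f C X (C.G.w i a) (C.G.w i b) := by
  obtain ⟨A, hA⟩ := X.exists_lift (C.G.xu_mem (K := K) a 1)
  obtain ⟨B, hB⟩ := X.exists_lift (C.G.xu_mem (K := K) b 1)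
  rw [f_eq C X hA hB, conjugate_commutatorElement]
  exact (f_eq C X (by rw [map_mul, map_mul, map_inv, hq, hA, nU_xu_one C hK])
    (by rw [map_mul, map_mul, map_inv, hq, hB, nU_xu_one C hK])).symm

include hK in
theorem f_sq {a b k : Fin D.nroots} (h : IsPair C K a b k) (hd : C.DZ X a k) :
    f C X a b * f C X a b = 1 := by
  obtain ⟨A, hA⟩ := X.exists_lift (C.G.xu_mem (K := K) a 1)
  obtain ⟨B, hB⟩ := X.exists_lift (C.G.xu_mem (K := K) b 1)
  have hp := p_f C X h
  rw [f_eq C X hA hB] at hp ⊢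
  have hc := (hd 1 1 A ⁅A, B⁆ hA hp).eq
  have hA2 : X.p (A * A) = X.p 1 := by
    rw [map_mul, hA, map_one]
    nth_rw 1 [← xu_inv_one C hK a]
    rw [inv_mul_cancel]
  have h1 : ⁅A * A, B⁆ = 1 := by rw [X.comm_congr hA2 rfl, commutatorElement_one_left]
  rw [show ⁅A * A, B⁆ = A * ⁅A, B⁆ * A⁻¹ * ⁅A, B⁆ by simp only [commutatorElement_def]; group, hc,
    mul_inv_cancel_right] at h1
  exact h1

include hK in
theorem f_symm {a b k : Fin D.nroots} (h : IsPair C K a b k) (hd : C.DZ X a k) :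
    f C X b a = f C X a b := by
  rw [f, ← commutatorElement_inv]
  exact inv_eq_of_mul_eq_one_left (f_sq C X hK h hd)

include hK in
/-- the associativity move -/
theorem f_move {a b c d e k : Fin D.nroots} (hcd : IsPair C K c d a) (hdb : IsPair C K d b e)
    (hab : IsPair C K a b k) (hcb : C.DZ X c b) (hdk : C.DZ X d k) (hak : C.DZ X a k)
    (hde : C.DZ X d e) : f C X a b = f C X c e := by
  obtain ⟨A₀, hc⟩ := X.exists_lift (C.G.xu_mem (K := K) c 1)
  obtain ⟨B, hb⟩ := X.exists_lift (C.G.xu_mem (K := K) b 1)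
  obtain ⟨E', hd⟩ := X.exists_lift (C.G.xu_mem (K := K) d 1)
  obtain ⟨W, hw⟩ := X.exists_lift (C.G.xu_mem (K := K) e 1)
  have hA : X.p ⁅A₀, E'⁆ = C.G.xu a 1 := by rw [map_commutatorElement, hc, hd, hcd.2]
  have e1 : B * A₀ * B⁻¹ = A₀ := by rw [← (hcb 1 1 A₀ B hc hb).eq, mul_inv_cancel_right]
  have e2 : X.p (B * E' * B⁻¹) = X.p (E' * W) := by
    have h4 : Commute (C.G.xu d (1 : K)) (C.G.xu e 1) := dz_commute C X hde
    rw [map_mul, map_mul, map_inv, map_mul, hb, hd, hw, h4.eq, ← xu_inv_one C hK e, ← hdb.2,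
      commutatorElement_inv, commutatorElement_def]
    group
  have hk : X.p ⁅A₀, W⁆ = C.G.xu k 1 := by
    have h2 := congrArg X.p (conjugate_commutatorElement A₀ E' B)
    rw [e1, map_commutatorElement X.p A₀ (B * E' * B⁻¹), e2, ← map_commutatorElement,
      show ⁅A₀, E' * W⁆ = ⁅A₀, E'⁆ * (E' * ⁅A₀, W⁆ * E'⁻¹) by
        simp only [commutatorElement_def]; group] at h2
    simp only [map_mul, map_inv, hA, hb, hd] at h2
    have hcomm : C.G.xu b (1 : K) * C.G.xu a 1 * (C.G.xu b 1)⁻¹ = C.G.xu a 1 * C.G.xu k 1 := by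
      have h3 : ⁅C.G.xu a (1 : K), C.G.xu b (1 : K)⁆ = C.G.xu k 1 := hab.2
      have hak' : Commute (C.G.xu a (1 : K)) (C.G.xu k 1) := dz_commute C X hak
      have h5 : C.G.xu k (1 : K) = (⁅C.G.xu a (1 : K), C.G.xu b (1 : K)⁆)⁻¹ := by
        rw [h3, xu_inv_one C hK]
      rw [hak'.eq, h5, commutatorElement_inv, commutatorElement_def]
      group
    rw [hcomm, mul_right_inj] at h2
    have h7 : Commute (C.G.xu d (1 : K)) (C.G.xu k 1) := dz_commute C X hdk
    calc X.p ⁅A₀, W⁆ = (C.G.xu d 1)⁻¹ * C.G.xu k 1 * C.G.xu d 1 := by rw [h2]; group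
      _ = C.G.xu k 1 := by rw [mul_assoc, ← h7.eq, inv_mul_cancel_left]
  have e3 : ⁅B, ⁅A₀, E'⁆⁆ = ⁅A₀, W⁆ := by
    calc ⁅B, ⁅A₀, E'⁆⁆ = B * ⁅A₀, E'⁆ * B⁻¹ * ⁅A₀, E'⁆⁻¹ := commutatorElement_def _ _
      _ = ⁅A₀, E' * W⁆ * ⁅A₀, E'⁆⁻¹ := by
          rw [conjugate_commutatorElement, e1, X.comm_congr rfl e2]
      _ = ⁅A₀, E'⁆ * (E' * ⁅A₀, W⁆ * E'⁻¹) * ⁅A₀, E'⁆⁻¹ := by
          simp only [commutatorElement_def]; group
      _ = ⁅A₀, W⁆ := by
          rw [(hdk 1 1 E' ⁅A₀, W⁆ hd hk).eq, mul_inv_cancel_right,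
            (hak 1 1 ⁅A₀, E'⁆ ⁅A₀, W⁆ hA hk).eq, mul_inv_cancel_right]
  rw [← f_symm C X hK hab hak, f_eq C X hb hA, e3, f_eq C X hc hw]

/-- all the pairs with sum `k` are linked -/
def Links (D : ChevalleyDatum) (F : Fast) (T : List (List (ℕ × ℕ × ℕ × ℕ × ℕ))) : Prop :=
  ∃ keys kks : List ℤ, keys = (List.range D.nroots).map (key D) ∧
    kks = (List.range D.rank).map (fun i => key D (D.simple i)) ∧ ∀ i < D.rank, (T.getD i []).isEmpty = false ∧
    apart D F ((T.getD i []).headD (0, 0, 0, 0, 0)).1 (D.simple i) = true ∧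
    linkChk D F (D.simple i) [] (T.getD i []) = true ∧ fullChk (T.getD i []) keys (kks.getD i 0) = true

include hK in
theorem link_sound {B : List (List (ℕ × ℕ × ℕ))} (hB : Base D F B) (k : Fin D.nroots) (v : P) :
    ∀ (T : List (ℕ × ℕ × ℕ × ℕ × ℕ)) (seen : List (ℕ × ℕ)), linkChk D F k.val seen T = true →
      (seen = [] → ∀ e T', T = e :: T' → ∀ a b : Fin D.nroots, a.val = e.1 → b.val = e.2.1 →
        f C X a b = v) →
      (∀ x ∈ seen, ∀ a b : Fin D.nroots, a.val = x.1 → b.val = x.2 →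
        IsPair C K a b k ∧ f C X a b = v) →
      ∀ e ∈ T, ∀ a b : Fin D.nroots, a.val = e.1 → b.val = e.2.1 →
        IsPair C K a b k ∧ f C X a b = v := by
  intro T
  induction T with
  | nil => intro _ _ _ _ e he; simp at he
  | cons hd T ih =>
    intro seen h h0 hseen
    obtain ⟨a₀, b₀, c₀, e₀, d₀⟩ := hd
    simp only [linkChk, Bool.and_eq_true, Bool.or_eq_true, List.isEmpty_iff,
      List.contains_iff_mem] at h
    obtain ⟨⟨hs, hlink⟩, hrest⟩ := h
    have hab : ∀ a b : Fin D.nroots, a.val = a₀ → b.val = b₀ →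
        IsPair C K a b k ∧ f C X a b = v := by
      rintro ⟨a, ha⟩ ⟨b, hb⟩ e1 e2
      simp only at e1 e2
      subst e1 e2
      have hp := isPair_of_single C hK hs ha hb k.isLt
      have hdz : ∀ {x y : ℕ} (hxy : apart D F x y = true) (hx : x < D.nroots) (hy : y < D.nroots),
          C.DZ X ⟨x, hx⟩ ⟨y, hy⟩ := by
        intro x y hxy hx hy
        refine dz_all C X hK hB ?_ (commute_of_apart C hxy hx hy 1 1)
        have h' := hxy
        simp only [apart, Bool.and_eq_true, decide_eq_true_eq] at h'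
        exact fun e => h'.1.2.2.2 ((congrArg Fin.val e).trans (C.G.neg_val ⟨x, hx⟩).symm)
      refine ⟨hp, ?_⟩
      rcases hlink with (he | ⟨hsw, hak⟩) | ⟨hmv, hm⟩
      · exact h0 he _ _ rfl ⟨a, ha⟩ ⟨b, hb⟩ rfl rfl
      · obtain ⟨-, h2⟩ := hseen _ hsw ⟨b, hb⟩ ⟨a, ha⟩ rfl rfl
        rw [← f_symm C X hK hp (hdz hak ha k.isLt)]
        exact h2
      · simp only [moveChk, Bool.and_eq_true] at hm
        obtain ⟨⟨⟨⟨⟨h1, h2⟩, h3⟩, h4⟩, h5⟩, h6⟩ := hm
        have b1 := h1; have b2 := h2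
        simp only [single, Bool.and_eq_true, decide_eq_true_eq] at b1 b2
        have hc : c₀ < D.nroots := b1.1.1
        have hd' : d₀ < D.nroots := b1.1.2.1
        have he' : e₀ < D.nroots := b2.1.2.2.1
        rw [f_move C X hK (isPair_of_single C hK h1 hc hd' ha) (isPair_of_single C hK h2 hd' hb he')
          hp (hdz h3 hc hb) (hdz h4 hd' k.isLt) (hdz h5 ha k.isLt) (hdz h6 hd' he')]
        exact (hseen _ hmv ⟨c₀, hc⟩ ⟨e₀, he'⟩ rfl rfl).2
    intro e he
    rcases List.mem_cons.1 he with rfl | he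
    · exact hab
    · refine ih _ hrest (fun h' => absurd h' (List.cons_ne_nil _ _)) (fun x hx => ?_) e he
      rcases List.mem_cons.1 hx with rfl | hx
      · exact hab
      · exact hseen x hx

theorem link_single {k : ℕ} : ∀ {T : List (ℕ × ℕ × ℕ × ℕ × ℕ)} {seen : List (ℕ × ℕ)}
    {e : ℕ × ℕ × ℕ × ℕ × ℕ}, e ∈ T → linkChk D F k seen T = true → single D F e.1 e.2.1 k = true := by
  intro T
  induction T with
  | nil => intro _ e he _; simp at he
  | cons hd T ih =>
    intro seen e he h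
    obtain ⟨a, b, c, x, d⟩ := hd
    simp only [linkChk, Bool.and_eq_true] at h
    rcases List.mem_cons.1 he with rfl | he
    · exact h.1.1
    · exact ih he h.2

include hK in
theorem exists_pair {T : List (List (ℕ × ℕ × ℕ × ℕ × ℕ))} (hT : Links D F T) :
    ∀ k : Fin D.nroots, ∃ a b, IsPair C K a b k := by
  refine C.G.orbit _ (fun i _ => ?_) fun i k hk => ?_
  · obtain ⟨_, _, _, _, hT⟩ := hT
    obtain ⟨hne, -, hl, -⟩ := hT i.val i.isLt
    rw [← C.G.simp_val i] at hl
    cases h : T.getD i.val [] with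
    | nil => rw [h] at hne; simp at hne
    | cons e T' =>
      rw [h] at hl
      have hs := link_single List.mem_cons_self hl
      have hb := hs
      simp only [single, Bool.and_eq_true, decide_eq_true_eq] at hb
      exact ⟨⟨e.1, hb.1.1⟩, ⟨e.2.1, hb.1.2.1⟩, isPair_of_single C hK hs _ _ _⟩
  · obtain ⟨a, b, h⟩ := hk
    exact ⟨_, _, IsPair.w C hK i h⟩

include hK in
theorem exists_val {B : List (List (ℕ × ℕ × ℕ))} (hB : Base D F B)
    {T : List (List (ℕ × ℕ × ℕ × ℕ × ℕ))} (hT : Links D F T) :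
    ∀ k : Fin D.nroots, ∃ v : P, X.p v = C.G.xu k 1 ∧ v * v = 1 ∧
      ∀ a b, IsPair C K a b k → f C X a b = v := by
  refine C.G.orbit _ (fun i _ => ?_) fun i k hk => ?_
  · obtain ⟨keys, kks, hkeys, hkks, hT⟩ := hT
    obtain ⟨hne, hap, hl, hf⟩ := hT i.val i.isLt
    rw [← C.G.simp_val i] at hl hap
    obtain ⟨e₀, T', hT'⟩ : ∃ e T', T.getD i.val [] = e :: T' := by
      cases h : T.getD i.val [] with
      | nil => rw [h] at hne; simp at hne
      | cons e T' => exact ⟨e, T', rfl⟩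
    rw [hT'] at hl hf hap
    have hl' := hl
    obtain ⟨a₀, b₀, c₀, e₁, d₀⟩ := e₀
    simp only [linkChk, Bool.and_eq_true] at hl'
    have hb0 := hl'.1.1
    simp only [single, Bool.and_eq_true, decide_eq_true_eq] at hb0
    have ha : a₀ < D.nroots := hb0.1.1
    have hb : b₀ < D.nroots := hb0.1.2.1
    have hp := isPair_of_single C hK hl'.1.1 ha hb (C.G.simp' i).isLt
    have key' : ∀ e ∈ (a₀, b₀, c₀, e₁, d₀) :: T', ∀ a b : Fin D.nroots, a.val = e.1 → b.val = e.2.1 →
        IsPair C K a b (C.G.simp' i) ∧ f C X a b = f C X ⟨a₀, ha⟩ ⟨b₀, hb⟩ := by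
      refine link_sound C X hK hB _ _ _ [] hl (fun _ e T'' he a b h1 h2 => ?_) (by simp)
      obtain ⟨rfl, -⟩ := List.cons.inj he
      rw [show a = ⟨a₀, ha⟩ from Fin.ext h1, show b = ⟨b₀, hb⟩ from Fin.ext h2]
    refine ⟨f C X ⟨a₀, ha⟩ ⟨b₀, hb⟩, p_f C X hp, ?_, fun a b hab => ?_⟩
    · simp only [List.headD_cons] at hap
      refine f_sq C X hK hp (dz_all C X hK hB ?_
        (commute_of_apart C hap ha (C.G.simp' i).isLt 1 1))
      simp only [apart, Bool.and_eq_true, decide_eq_true_eq] at hap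
      exact fun e => hap.1.2.2.2 ((congrArg Fin.val e).trans (C.G.neg_val ⟨a₀, ha⟩).symm)
    · have hkk : kks.getD i.val 0 = key D (C.G.simp' i).val := by
        rw [hkks, C.G.simp_val, List.getD_eq_getElem _ _ (by simp)]
        simp
      have hf' := hf
      rw [fullChk, List.all_eq_true] at hf'
      have hmem : (key D a.val, a.val) ∈ keys.zipIdx := by
        rw [List.mk_mem_zipIdx_iff_getElem?, hkeys]
        simp [a.isLt]
      have hh := hf' _ hmem
      simp only [Bool.or_eq_true, List.any_eq_true, Nat.beq_eq] at hh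
      rcases hh with ⟨e, he, hea⟩ | hk
      · have hl2 := link_single he hl
        simp only [single, Bool.and_eq_true, decide_eq_true_eq] at hl2
        obtain ⟨⟨-, hb', -⟩, -⟩ := hl2
        obtain ⟨hp', hv⟩ := key' e he a ⟨e.2.1, hb'⟩ hea.symm rfl
        have : (⟨e.2.1, hb'⟩ : Fin D.nroots) = b :=
          C.G.rho_injective (add_left_cancel (hp'.1.symm.trans hab.1))
        exact this ▸ hv
      · have hbm : key D b.val ∈ keys := by
          rw [hkeys]; exact List.mem_map.2 ⟨b.val, List.mem_range.2 b.isLt, rfl⟩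
        have := allList_spec hk _ hbm
        rw [Bool.not_eq_true', hkk, key_add C.G hab.1, add_comm, intBeq_self] at this
        exact Bool.noConfusion this
  · obtain ⟨v, hv1, hv2, hv⟩ := hk
    obtain ⟨q, hq⟩ := X.exists_lift (C.G.nU_mem_group (K := K) i)
    refine ⟨q * v * q⁻¹, by rw [map_mul, map_mul, map_inv, hq, hv1, nU_xu_one C hK], ?_, fun a b hab => ?_⟩
    · rw [show q * v * q⁻¹ * (q * v * q⁻¹) = q * (v * v) * q⁻¹ by group, hv2]; group
    · have h := IsPair.w C hK i hab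
      rw [C.G.w_w] at h
      rw [← hv _ _ h, f_w C X hK i hq, C.G.w_w, C.G.w_w]

include hK in
theorem exists_hom {B : List (List (ℕ × ℕ × ℕ))} (hB : Base D F B)
    {T : List (List (ℕ × ℕ × ℕ × ℕ × ℕ))} (hT : Links D F T) :
    ∃ ψ : D.SteinbergCover K →* P, X.p.comp ψ = C.theta := by
  classical
  choose val h1 h2 h3 using exists_val C X hK hB hT
  have hne : (1 : K) ≠ 0 := one_ne_zero
  let L : C.Lifts X :=
    { φ := fun r t => if t = 0 then 1 else val r
      lift := fun r t => by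
        rcases hK t with rfl | rfl
        · simp [C.G.xu_zero]
        · simp [h1]
      add := fun r t u => by
        have h11 : (1 : K) + 1 = 0 := by
          linear_combination -(neg_one (K := K) hK)
        rcases hK t with rfl | rfl <;> rcases hK u with rfl | rfl <;> simp [h2, h11]
      equi := fun i r q hq t => by
        rcases hK t with rfl | rfl
        · simp
        simp only [if_neg hne, cast_one hK (C.G.eta_unit i r), mul_one]
        obtain ⟨a, b, hab⟩ := exists_pair C hK hT r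
        rw [← h3 r a b hab, f_w C X hK i hq]
        exact h3 _ _ _ (IsPair.w C hK i hab) }
  refine C.exists_hom L fun r s hr hs hrs _ t u => ?_
  rcases hK u with rfl | rfl
  · rw [L.φ_zero, mul_one, mul_inv_cancel]; exact one_mem _
  rcases hK t with rfl | rfl
  · rw [L.φ_zero, one_mul, inv_one, mul_one]; exact L.mem_Uh hrs hs _
  have hsr : s ≠ r := fun e => by rw [e] at hrs; exact lt_irrefl _ hrs
  have hr1 : L.φ r 1 = val r := if_neg hne
  have hs1 : L.φ s 1 = val s := if_neg hne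
  rcases rel_all C X hK hB r s hsr (C.pos_ne_negr hr hs) with h | ⟨k, hk⟩
  · rw [(h 1 1 _ _ (L.lift r 1) (L.lift s 1)).eq, mul_inv_cancel_right]
    exact L.mem_Uh hrs hs 1
  · obtain ⟨hk1, hk2, hk3⟩ := C.rho_combo_index (i := 1) (j := 1) hr hs le_rfl le_rfl
      (show C.G.rho k = ((1 : ℕ) : ℤ) • C.G.rho r + ((1 : ℕ) : ℤ) • C.G.rho s by simpa using hk.1)
    have e : ⁅L.φ r 1, L.φ s 1⁆ = L.φ k 1 := by
      rw [hr1, hs1, show L.φ k 1 = val k from if_neg hne, ← h3 k r s hk, f_eq C X (h1 r) (h1 s)]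
    rw [show L.φ r 1 * L.φ s 1 * (L.φ r 1)⁻¹ = ⁅L.φ r 1, L.φ s 1⁆ * L.φ s 1 by
      rw [commutatorElement_def, inv_mul_cancel_right], e]
    exact mul_mem (L.mem_Uh (by omega) hk1 1) (L.mem_Uh hrs hs 1)

end CfsgLib.Lie.Chev.Univ.Two
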