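import Cfsg.Agent.Lib.Lie.Chev.Univ.Two
import Cfsg.Agent.Lib.Lie.Chev.FullAll

/-!
# The table for type `E6` over the field with two elements
-/

set_option autoImplicit false
set_option maxRecDepth 100000

namespace CfsgLib.Lie.Chev.Univ.Two

open Cfsg.Lie

/-- commuting pairs, type E6 -/
def baseE6 : List (List (ℕ × ℕ × ℕ)) :=
  [[(0,1,25),(1,0,46),(2,0,47),(3,0,48),(4,0,49),(16,0,61),(17,0,62),(18,0,63),(19,0,64),
      (20,0,65),(21,0,66),(22,0,67),(23,0,68),(24,0,69),(25,0,70),(26,1,64),(27,1,65),(28,1,66),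
      (29,2,66),(30,1,67),(31,1,68),(32,1,69),(33,2,67),(34,2,68),(35,3,67),(36,4,68),(37,3,69),
      (38,4,69),(39,2,70),(40,3,70),(41,4,70),(46,1,71),(47,2,71),(48,3,71),(49,4,71),(57,16,69),
      (58,16,70),(59,17,70),(60,18,70),(61,16,71),(62,17,71),(63,18,71),(64,19,71),(65,20,71),
      (66,21,71),(67,22,71),(68,23,71),(69,24,71),(70,25,71),(71,46,70)],
     [(1,2,32),(2,3,34),(3,2,37),(4,2,38),(5,2,42),(6,3,42),(7,4,42),(11,1,53),(12,1,54),
      (13,1,55),(14,2,55),(15,5,55),(16,2,57),(17,3,57),(18,4,57),(26,1,64),(27,1,65),(28,1,66),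
      (29,2,66),(30,1,67),(31,1,68),(32,1,69),(33,2,67),(34,2,68),(35,3,67),(36,4,68),(37,3,69),
      (38,4,69),(42,5,69),(47,2,71),(48,3,71),(49,4,71),(50,5,71),(51,6,71),(52,7,71),(53,14,67),
      (54,14,68),(55,14,69),(56,16,66),(57,16,69),(61,16,71),(62,17,71),(63,18,71),(64,29,67),
      (65,29,68),(66,29,69),(67,33,69),(68,34,69),(69,37,68),(71,47,69)],
     [(0,1,25),(1,0,46),(5,0,50),(6,0,51),(7,0,52),(8,0,53),(9,0,54),(10,0,55),(11,1,53),
      (12,1,54),(13,1,55),(15,5,55),(16,0,61),(17,0,62),(18,0,63),(22,0,67),(23,0,68),(24,0,69),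
      (25,0,70),(30,1,67),(31,1,68),(32,1,69),(33,8,61),(34,9,61),(35,8,62),(36,9,63),(37,10,62),
      (38,10,63),(43,5,70),(44,6,70),(45,7,70),(46,1,71),(50,5,71),(51,6,71),(52,7,71),(53,8,71),
      (54,9,71),(55,10,71),(57,16,69),(58,16,70),(59,17,70),(60,18,70),(61,16,71),(62,17,71),
      (63,18,71),(67,22,71),(68,23,71),(69,24,71),(70,25,71),(71,46,70)],
     [(0,3,23),(2,0,47),(3,0,48),(4,0,49),(5,0,50),(8,0,53),(9,0,54),(10,0,55),(11,3,50),
      (12,4,50),(14,2,55),(15,5,55),(16,0,61),(19,0,64),(20,0,65),(21,0,66),(22,0,67),(23,0,68),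
      (25,0,70),(26,3,61),(27,4,61),(29,2,66),(33,2,67),(34,2,68),(35,3,67),(36,4,68),(40,3,70),
      (41,4,70),(43,5,70),(44,10,67),(45,10,68),(47,2,71),(48,3,71),(49,4,71),(50,5,71),
      (53,8,71),(54,9,71),(55,10,71),(56,16,66),(58,16,70),(59,21,67),(60,21,68),(61,16,71),
      (64,19,71),(65,20,71),(66,21,71),(67,22,71),(68,23,71),(70,25,71),(71,48,68)],
     [(0,1,25),(1,0,46),(3,0,48),(4,0,49),(6,0,51),(7,0,52),(8,0,53),(10,0,55),(11,1,53),
      (13,1,55),(14,4,53),(15,7,53),(17,0,62),(18,0,63),(19,0,64),(21,0,66),(22,0,67),(24,0,69),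
      (25,0,70),(26,1,64),(28,1,66),(29,4,64),(30,1,67),(32,1,69),(35,3,67),(38,4,69),(40,3,70),
      (41,4,70),(42,7,67),(44,6,70),(45,7,70),(46,1,71),(48,3,71),(49,4,71),(51,6,71),(52,7,71),
      (53,8,71),(55,10,71),(56,18,64),(57,18,67),(59,17,70),(60,18,70),(62,17,71),(63,18,71),
      (64,19,71),(66,21,71),(67,22,71),(69,24,71),(70,25,71),(71,46,70)],
     [(0,1,25),(1,0,46),(2,0,47),(4,0,49),(5,0,50),(7,0,52),(9,0,54),(10,0,55),(12,1,54),
      (13,1,55),(14,2,55),(15,5,55),(16,0,61),(18,0,63),(20,0,65),(21,0,66),(23,0,68),(24,0,69),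
      (25,0,70),(27,1,65),(28,1,66),(29,2,66),(31,1,68),(32,1,69),(34,2,68),(38,4,69),(39,2,70),
      (41,4,70),(42,5,69),(43,5,70),(45,7,70),(46,1,71),(47,2,71),(49,4,71),(50,5,71),(52,7,71),
      (54,9,71),(55,10,71),(56,16,66),(57,16,69),(58,16,70),(60,18,70),(61,16,71),(63,18,71),
      (65,20,71),(66,21,71),(68,23,71),(69,24,71),(70,25,71),(71,46,70)]]

/-- the keys of the roots, type E6 -/
def keysE6 : List ℤ :=
  [-16, -4080, -61696, -983296, 1048320, -65281, -986881,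
    1044735, -1044497, 987119, 65519, -1048561, 983055, 61455,
    3839, 254, -65535, -987135, 1044481, -1044751, 986865,
    65265, -1048336, 983280, 61680, 4064, -1048815, 982801,
    61201, 3585, -1052400, 979216, 57616, -1110016, 921600,
    -2031616, 2031616, -921600, 1110016, -57616, -979216, 1052400,
    -3585, -61201, -982801, 1048815, -4064, -61680, -983280,
    1048336, -65265, -986865, 1044751, -1044481, 987135, 65535,
    -254, -3839, -61455, -983055, 1048561, -65519, -987119,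
    1044497, -1044735, 986881, 65281, -1048320, 983296, 61696,
    4080, 16]

/-- linked pairs with fundamental sum, type E6 -/
def linksE6 : List (List (ℕ × ℕ × ℕ × ℕ × ℕ)) :=
  [[(16,66,0,0,0),(17,65,16,66,37),(18,64,16,66,38),(19,63,16,66,40),(20,62,16,66,41),
      (21,61,17,65,41),(26,60,16,66,48),(27,59,16,66,49),(28,58,17,65,49),(29,57,19,63,49),
      (57,29,0,0,0),(58,28,0,0,0),(59,27,0,0,0),(60,26,0,0,0),(61,21,0,0,0),(62,20,0,0,0),
      (63,19,0,0,0),(64,18,0,0,0),(65,17,0,0,0),(66,16,0,0,0)],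
     [(1,71,0,0,0),(11,63,1,71,53),(12,62,1,71,54),(13,61,1,71,55),(26,52,1,71,64),
      (27,51,1,71,65),(28,50,1,71,66),(30,49,1,71,67),(31,48,1,71,68),(32,47,1,71,69),
      (47,32,0,0,0),(48,31,0,0,0),(49,30,0,0,0),(50,28,0,0,0),(51,27,0,0,0),(52,26,0,0,0),
      (61,13,0,0,0),(62,12,0,0,0),(63,11,0,0,0),(71,1,0,0,0)],
     [(5,69,0,0,0),(6,68,5,69,37),(7,67,5,69,38),(15,57,5,69,55),(22,52,5,69,59),(23,51,5,69,60),
      (24,50,6,68,60),(30,45,5,69,62),(31,44,5,69,63),(32,43,6,68,63),(43,32,0,0,0),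
      (44,31,0,0,0),(45,30,0,0,0),(50,24,0,0,0),(51,23,0,0,0),(52,22,0,0,0),(57,15,0,0,0),
      (67,7,0,0,0),(68,6,0,0,0),(69,5,0,0,0)],
     [(2,70,0,0,0),(8,65,2,70,44),(9,64,2,70,45),(14,58,2,70,55),(19,54,2,70,59),(20,53,2,70,60),
      (25,47,8,65,60),(29,43,2,70,66),(33,41,2,70,67),(34,40,2,70,68),(40,34,0,0,0),
      (41,33,0,0,0),(43,29,0,0,0),(47,25,0,0,0),(53,20,0,0,0),(54,19,0,0,0),(58,14,0,0,0),
      (64,9,0,0,0),(65,8,0,0,0),(70,2,0,0,0)],
     [(3,69,0,0,0),(6,66,3,69,42),(10,62,3,69,45),(13,59,3,69,52),(17,55,3,69,57),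
      (21,51,3,69,60),(24,48,6,66,60),(28,44,3,69,63),(32,40,6,66,63),(35,38,3,69,67),
      (38,35,0,0,0),(40,32,0,0,0),(44,28,0,0,0),(48,24,0,0,0),(51,21,0,0,0),(55,17,0,0,0),
      (59,13,0,0,0),(62,10,0,0,0),(66,6,0,0,0),(69,3,0,0,0)],
     [(4,68,0,0,0),(7,65,4,68,42),(9,63,4,68,43),(12,60,4,68,50),(18,54,4,68,57),(20,52,4,68,58),
      (23,49,7,65,58),(27,45,4,68,61),(31,41,7,65,61),(34,38,9,63,61),(38,34,0,0,0),
      (41,31,0,0,0),(45,27,0,0,0),(49,23,0,0,0),(52,20,0,0,0),(54,18,0,0,0),(60,12,0,0,0),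
      (63,9,0,0,0),(65,7,0,0,0),(68,4,0,0,0)]]

theorem baseE6_ok : Base chevE6 fastE6 baseE6 := by
  unfold Base; decide +kernel

theorem linksE6_ok : Links chevE6 fastE6 linksE6 := by
  refine ⟨keysE6, [-254, -4064, -3585, -57616, -921600, 2031616],
    by decide +kernel, by decide +kernel, ?_⟩
  decide +kernel

end CfsgLib.Lie.Chev.Univ.Two
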